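import Mathlib.Analysis.Complex.Basic
import Mathlib.Topology.Sequences
import Mathlib.Analysis.SpecificLimits.Normed
import Mathlib.Tactic.Positivity
import Mathlib.Algebra.BigOperators.Field

/-! Bounded power sums force the terms into the closed unit disc. -/

namespace GrothLib.Elem

open Filter Topology

theorem not_tendsto_zero_sum_pow_circle {ι : Type*} [Fintype ι] [Nonempty ι] (v : ι → ℂ)
    (hv : ∀ i, ‖v i‖ = 1) : ¬ Tendsto (fun N : ℕ => ∑ i, v i ^ N) atTop (𝓝 0) := by
  intro h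
  obtain ⟨a, ha, φ, hφ, hlim⟩ := (isCompact_univ_pi fun _ : ι => isCompact_closedBall (0 : ℂ) 1).tendsto_subseq
    (x := fun N : ℕ => fun i => v i ^ N)
    (fun N i _ => by simp [norm_pow, hv])
  have hai : ∀ i, Tendsto (fun l => v i ^ φ l) atTop (𝓝 (a i)) := fun i =>
    ((continuous_apply i).tendsto _).comp hlim
  have hne : ∀ i, a i ≠ 0 := fun i h0 => by
    have h1 := ((continuous_norm.tendsto _).comp (hai i))
    simp only [Function.comp_def, norm_pow, hv, one_pow] at h1
    have := tendsto_nhds_unique tendsto_const_nhds h1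
    rw [h0, norm_zero] at this
    exact one_ne_zero this
  have hle : ∀ l, φ l + l ≤ φ (φ l + l) := fun l => hφ.id_le _
  have hψ : Tendsto (fun l => φ l + l) atTop atTop :=
    tendsto_atTop_mono (fun l => Nat.le_add_left l (φ l)) tendsto_id
  have hD : Tendsto (fun l => φ (φ l + l) - φ l) atTop atTop :=
    tendsto_atTop_mono (fun l => by have := hle l; simp only [id]; omega) tendsto_id
  have h1 : ∀ i, Tendsto (fun l => v i ^ (φ (φ l + l) - φ l)) atTop (𝓝 1) := fun i => by
    have e : ∀ l, v i ^ (φ (φ l + l) - φ l) = v i ^ φ (φ l + l) / v i ^ φ l := fun l => by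
      have hvi : v i ≠ 0 := norm_ne_zero_iff.1 (by rw [hv]; exact one_ne_zero)
      rw [pow_sub₀ _ hvi (by have := hle l; omega), div_eq_mul_inv]
    simp only [e]
    have := ((hai i).comp hψ).div (hai i) (hne i)
    rw [div_self (hne i)] at this
    exact this
  have h2 : Tendsto (fun l => ∑ i, v i ^ (φ (φ l + l) - φ l)) atTop (𝓝 (∑ _i : ι, (1 : ℂ))) :=
    tendsto_finsetSum _ fun i _ => h1 i
  have := tendsto_nhds_unique h2 (h.comp hD)
  simp at this

theorem norm_le_one_of_powerSum_bounded {ι : Type*} [Fintype ι] (γ : ι → ℂ) (C : ℝ)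
    (hC : ∀ N : ℕ, 1 ≤ N → ‖∑ i, γ i ^ N‖ ≤ C) (i : ι) : ‖γ i‖ ≤ 1 := by
  classical
  have : Nonempty ι := ⟨i⟩
  obtain ⟨i₀, hmax⟩ := Finite.exists_max fun j => ‖γ j‖
  by_contra hlt
  set R := ‖γ i₀‖ with hR
  have hR1 : 1 < R := lt_of_lt_of_le (not_le.1 hlt) (hmax i)
  have hR0 : (R : ℂ) ≠ 0 := Complex.ofReal_ne_zero.2 (by linarith)
  set v := fun j => γ j / (R : ℂ) with hv
  have hvle : ∀ j, ‖v j‖ ≤ 1 := fun j => by
    rw [hv, norm_div, Complex.norm_real, Real.norm_eq_abs, abs_of_pos (by linarith),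
      div_le_one (by linarith)]
    exact hmax j
  have hzero : Tendsto (fun N : ℕ => ∑ j, v j ^ N) atTop (𝓝 0) := by
    refine squeeze_zero_norm' (a := fun N : ℕ => C * (R⁻¹) ^ N) ?_ ?_
    · filter_upwards [eventually_ge_atTop 1] with N hN
      simp only [hv, div_pow, ← Finset.sum_div, norm_div, norm_pow, Complex.norm_real, Real.norm_eq_abs,
        abs_of_pos (show (0 : ℝ) < R by linarith), inv_pow, ← div_eq_mul_inv]
      exact div_le_div_of_nonneg_right (hC N hN) (by positivity)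
    · simpa using (tendsto_pow_atTop_nhds_zero_of_lt_one (inv_nonneg.2 (by linarith : (0 : ℝ) ≤ R))
        (inv_lt_one_of_one_lt₀ hR1)).const_mul C
  let S := {j : ι // ‖v j‖ = 1}
  have : Nonempty S := ⟨⟨i₀, by
    rw [hv, norm_div, Complex.norm_real, Real.norm_eq_abs, abs_of_pos (by linarith), ← hR,
      div_self (by linarith)]⟩⟩
  refine not_tendsto_zero_sum_pow_circle (fun j : S => v j.1) (fun j => j.2) ?_
  have hsmall : Tendsto (fun N : ℕ => ∑ j : {j : ι // ¬ ‖v j‖ = 1}, v j.1 ^ N) atTop (𝓝 0) := by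
    rw [← Finset.sum_const_zero (s := (Finset.univ : Finset {j : ι // ¬ ‖v j‖ = 1}))]
    exact tendsto_finsetSum _ fun j _ =>
      tendsto_pow_atTop_nhds_zero_of_norm_lt_one (lt_of_le_of_ne (hvle _) j.2)
  have := hzero.sub hsmall
  rw [sub_zero] at this
  refine this.congr fun N => ?_
  rw [sub_eq_iff_eq_add]
  exact (Fintype.sum_subtype_add_sum_subtype (fun j => ‖v j‖ = 1) fun j => v j ^ N).symm

end GrothLib.Elem
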