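import Groth.Prelude.Def_W4c3degenlocivbPfaff
import Mathlib

/-!
Apolarity and partial derivatives.
-/

namespace Apolar

open MvPolynomial W4c3degenlocivb

variable {k : Type*} [Field k] {m : ℕ}

/-- the falling factorial of multi-indices -/
def desc (β α : Fin m →₀ ℕ) : ℕ := ∏ i, Nat.descFactorial (β i) (α i)

lemma coeff_contract (D G : MvPolynomial (Fin m) k) (γ : Fin m →₀ ℕ) :
    coeff γ (contract D G) =
      ∑ δ ∈ D.support, coeff δ D * coeff (δ + γ) G * (desc (δ + γ) δ : k) := by
  classical
  rw [contract, coeff_sum]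
  refine Finset.sum_congr rfl fun δ _ => ?_
  rw [coeff_sum]
  have hdesc : ∀ β : Fin m →₀ ℕ, δ ≤ β →
      (β.support.prod fun i => Nat.descFactorial (β i) (δ i)) = desc β δ := by
    intro β hle
    rw [desc, Finset.prod_subset (Finset.subset_univ _)]
    intro i _ hi
    rw [Finsupp.notMem_support_iff] at hi
    rw [hi, Nat.eq_zero_of_le_zero (show δ i ≤ 0 from hi ▸ hle i)]
    rfl
  rw [Finset.sum_eq_single (δ + γ)]
  · rw [if_pos le_self_add, coeff_monomial, if_pos (add_tsub_cancel_left δ γ), hdesc _ le_self_add]
  · intro β _ hne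
    split_ifs with h
    · rw [coeff_monomial, if_neg]
      intro e
      exact hne (by rw [← e, add_tsub_cancel_of_le h])
    · exact coeff_zero _
  · intro h
    rw [notMem_support_iff.1 h]
    simp

lemma desc_mul (α δ γ : Fin m →₀ ℕ) :
    desc (α + (δ + γ)) α * desc (δ + γ) δ = desc (δ + (α + γ)) δ * desc (α + γ) α := by
  simp only [desc, ← Finset.prod_mul_distrib, Finsupp.add_apply]
  refine Finset.prod_congr rfl fun i _ => ?_
  apply Nat.eq_of_mul_eq_mul_left (Nat.factorial_pos (γ i))
  have h1 := Nat.factorial_mul_descFactorial (n := α i + (δ i + γ i)) (k := α i) (by omega)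
  have h2 := Nat.factorial_mul_descFactorial (n := δ i + γ i) (k := δ i) (by omega)
  have h3 := Nat.factorial_mul_descFactorial (n := δ i + (α i + γ i)) (k := δ i) (by omega)
  have h4 := Nat.factorial_mul_descFactorial (n := α i + γ i) (k := α i) (by omega)
  rw [Nat.add_sub_cancel_left] at h1 h2 h3 h4
  calc (γ i).factorial * ((α i + (δ i + γ i)).descFactorial (α i) * (δ i + γ i).descFactorial (δ i))
      = ((γ i).factorial * (δ i + γ i).descFactorial (δ i)) *
          (α i + (δ i + γ i)).descFactorial (α i) := by ring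
    _ = (α i + (δ i + γ i)).factorial := by rw [h2, h1]
    _ = (δ i + (α i + γ i)).factorial := by rw [add_left_comm]
    _ = ((γ i).factorial * (α i + γ i).descFactorial (α i)) *
          (δ i + (α i + γ i)).descFactorial (δ i) := by rw [h4, h3]
    _ = _ := by ring

lemma coeff_contract_contract (D F : MvPolynomial (Fin m) k) (α γ : Fin m →₀ ℕ) :
    coeff γ (contract D (contract (monomial α 1) F)) =
      (desc (α + γ) α : k) * coeff (α + γ) (contract D F) := by
  classical
  rw [coeff_contract, coeff_contract, Finset.mul_sum]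
  refine Finset.sum_congr rfl fun δ _ => ?_
  rw [coeff_contract, support_monomial, if_neg one_ne_zero, Finset.sum_singleton, coeff_monomial,
    if_pos rfl, one_mul, show α + (δ + γ) = δ + (α + γ) from add_left_comm _ _ _]
  have h := congrArg (fun n : ℕ => (n : k)) (desc_mul α δ γ)
  rw [show α + (δ + γ) = δ + (α + γ) from add_left_comm _ _ _] at h
  simp only [Nat.cast_mul] at h
  linear_combination (coeff δ D * coeff (δ + (α + γ)) F) * h

theorem contract_eq_zero_iff [CharZero k] (F : MvPolynomial (Fin m) k) (e : ℕ)
    (hF : F.IsHomogeneous e) (d : ℕ) (hd : d ≤ e) (D : MvPolynomial (Fin m) k)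
    (hD : D.IsHomogeneous d) :
    contract D F = 0 ↔
      ∀ α : Fin m →₀ ℕ, α.degree = e - d → contract D (contract (monomial α 1) F) = 0 := by
  constructor
  · intro h α _
    ext γ
    rw [coeff_contract_contract, h]
    simp
  · intro h
    ext γ
    rw [coeff_zero]
    by_contra hne
    have hdeg : γ.degree = e - d := by
      rw [coeff_contract] at hne
      obtain ⟨δ, hδ, hne'⟩ := Finset.exists_ne_zero_of_sum_ne_zero hne
      have h1 : δ.degree = d := by
        rw [Finsupp.degree_eq_weight_one]; exact hD (mem_support_iff.1 hδ)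
      have h2 : (δ + γ).degree = e := by
        rw [Finsupp.degree_eq_weight_one]
        exact hF (fun h0 => hne' (by rw [h0]; simp))
      rw [map_add] at h2
      omega
    have h0 := congrArg (coeff (0 : Fin m →₀ ℕ)) (h γ hdeg)
    rw [coeff_contract_contract, add_zero, coeff_zero] at h0
    refine hne ((mul_eq_zero.1 h0).resolve_left (Nat.cast_ne_zero.2 ?_))
    rw [desc, Finset.prod_ne_zero_iff]
    intro i _
    rw [Nat.descFactorial_self]
    exact Nat.factorial_ne_zero _

end Apolar
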