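import Mathlib
import Mathlib.Combinatorics.SimpleGraph.IncMatrix
import Mathlib.LinearAlgebra.FreeModule.PID
import Mathlib.LinearAlgebra.Dimension.Finite
import Mathlib.RingTheory.Finiteness.Basic
import Mathlib.Tactic.Abel
import Mathlib.Tactic.Module

/-! Edge labellings of connected bipartite graphs with prescribed vertex sums. -/

namespace GrothLib.Elem

open Finset

universe u v

variable {V : Type u} [Fintype V] [DecidableEq V] (G : SimpleGraph V) [DecidableRel G.Adj]
  (c : V → Bool)

/-- The boundary map. -/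
noncomputable def bd (R A : Type*) [Semiring R] [AddCommMonoid A] [Module R A] :
    (Sym2 V → A) →ₗ[R] (V → A) where
  toFun x v := ∑ e ∈ G.incidenceFinset v, x e
  map_add' x y := funext fun v => by simp [Finset.sum_add_distrib]
  map_smul' r x := funext fun v => by simp [Finset.smul_sum]

/-- The sign of a vertex relative to the root. -/
def sgn (r v : V) : ℤ := if c v = c r then 1 else -1

theorem sum_incidence_single {v w : V} (h : G.Adj v w) (x : V) :
    ∑ e ∈ G.incidenceFinset x, (Pi.single s(v, w) (1 : ℤ) : Sym2 V → ℤ) e =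
      (Pi.single v 1 + Pi.single w 1 : V → ℤ) x := by
  rw [Finset.sum_pi_single']
  simp only [SimpleGraph.mem_incidenceFinset, SimpleGraph.incidenceSet, Set.mem_ofPred_eq,
    SimpleGraph.mem_edgeSet, h, true_and, Sym2.mem_iff, Pi.add_apply, Pi.single_apply]
  by_cases h1 : x = v
  · subst h1
    simp [h.ne]
  · by_cases h2 : x = w <;> simp [h1, h2, h.ne, h.symm.ne]

variable {G c}

theorem exists_pot (hconn : G.Connected) (hbip : ∀ v w : V, G.Adj v w → c v ≠ c w) (r : V) :
    ∃ P : V → Sym2 V → ℤ, ∀ v, (∀ e ∉ G.edgeSet, P v e = 0) ∧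
      bd G ℤ ℤ (P v) = Pi.single v 1 - sgn c r v • Pi.single r 1 := by
  suffices H : ∀ {v w : V}, G.Walk v w → ∃ P : Sym2 V → ℤ, (∀ e ∉ G.edgeSet, P e = 0) ∧
      bd G ℤ ℤ P = Pi.single v 1 - sgn c w v • Pi.single w 1 by
    choose P hP using fun v => H ((hconn.preconnected v r).some)
    exact ⟨P, hP⟩
  intro v w p
  induction p with
  | nil => exact ⟨0, fun _ _ => rfl, by simp [sgn]⟩
  | @cons a b w h p ih =>
    obtain ⟨P, hP0, hP⟩ := ih
    refine ⟨Pi.single s(a, b) 1 - P, fun e he => ?_, ?_⟩
    · rw [Pi.sub_apply, hP0 e he, sub_zero, Pi.single_eq_of_ne]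
      rintro rfl
      exact he h
    · rw [map_sub, hP]
      have hs : sgn c w a = -sgn c w b := by
        have hne := hbip a b h
        revert hne
        simp only [sgn]
        generalize c a = x
        generalize c b = y
        generalize c w = z
        revert x y z
        decide
      have he : bd G ℤ ℤ (Pi.single s(a, b) 1) = Pi.single a 1 + Pi.single b 1 :=
        funext fun x => sum_incidence_single G h x
      rw [he, hs]
      module

theorem sum_sgn_bd (hbip : ∀ v w : V, G.Adj v w → c v ≠ c w) (r : V) {A : Type v} [AddCommGroup A]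
    (x : Sym2 V → A) : ∑ v, sgn c r v • bd G ℤ A x v = 0 := by
  classical
  have e : ∀ v, sgn c r v • bd G ℤ A x v = ∑ e, if e ∈ G.incidenceFinset v then sgn c r v • x e else 0 :=
    fun v => by
      rw [Finset.sum_ite_mem, Finset.univ_inter]
      show sgn c r v • (∑ e ∈ _, x e) = _
      rw [Finset.smul_sum]
  simp only [e]
  rw [Finset.sum_comm]
  refine Finset.sum_eq_zero fun e _ => ?_
  induction e using Sym2.ind with
  | _ a b =>
  by_cases h : G.Adj a b
  · have hf : (Finset.univ.filter fun v => s(a, b) ∈ G.incidenceFinset v) = {a, b} := by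
      ext v
      simp [SimpleGraph.mem_incidenceFinset, SimpleGraph.incidenceSet, h]
    rw [← Finset.sum_filter, hf, Finset.sum_pair h.ne, ← add_smul]
    convert zero_smul ℤ (x s(a, b))
    have hne := hbip a b h
    revert hne
    simp only [sgn]
    generalize c a = p
    generalize c b = q
    generalize c r = z
    revert p q z
    decide
  · exact Finset.sum_eq_zero fun v _ => if_neg (by
      simp [SimpleGraph.mem_incidenceFinset, SimpleGraph.incidenceSet, h])

/-- Extend an integral family to coefficients in any abelian group. -/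
theorem bd_sum_smul {A : Type v} [AddCommGroup A] {κ : Type*} (s : Finset κ)
    (P : κ → Sym2 V → ℤ) (a : κ → A) (v : V) :
    bd G ℤ A (fun e => ∑ l ∈ s, P l e • a l) v = ∑ l ∈ s, bd G ℤ ℤ (P l) v • a l := by
  show ∑ e ∈ _, ∑ l ∈ s, P l e • a l = ∑ l ∈ s, (∑ e ∈ _, P l e) • a l
  rw [Finset.sum_comm]
  simp only [Finset.sum_smul]

theorem exists_section (hconn : G.Connected) (hbip : ∀ v w : V, G.Adj v w → c v ≠ c w) (r : V) :
    ∃ P : V → Sym2 V → ℤ, (∀ v, ∀ e ∉ G.edgeSet, P v e = 0) ∧
      ∀ {A : Type v} [AddCommGroup A] (a : V → A),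
        bd G ℤ A (fun e => ∑ v, P v e • a v) =
          fun x => a x - (Pi.single r (∑ v, sgn c r v • a v) : V → A) x := by
  obtain ⟨P, hP⟩ := exists_pot hconn hbip r
  refine ⟨P, fun v => (hP v).1, fun {A} _ a => funext fun x => ?_⟩
  rw [bd_sum_smul]
  simp only [(hP _).2, Pi.sub_apply, Pi.smul_apply, Pi.single_apply, sub_smul,
    Finset.sum_sub_distrib, smul_eq_mul]
  congr 1
  · rw [Finset.sum_eq_single x]
    · simp
    · intro b _ hb; simp [Ne.symm hb]
    · simp
  · split_ifs <;> simp [mul_smul]

theorem exists_label (hconn : G.Connected) (hbip : ∀ v w : V, G.Adj v w → c v ≠ c w)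
    {A : Type v} [AddCommGroup A] (a : V → A)
    (hsum : ∑ v ∈ Finset.univ.filter (fun v => c v = true), a v =
      ∑ v ∈ Finset.univ.filter (fun v => c v = false), a v) :
    ∃ x : Sym2 V → A, (∀ e ∉ G.edgeSet, x e = 0) ∧ ∀ v, ∑ e ∈ G.incidenceFinset v, x e = a v := by
  obtain ⟨r⟩ := hconn.nonempty
  obtain ⟨P, hP0, hP⟩ := exists_section.{u, v} hconn hbip r
  refine ⟨fun e => ∑ v, P v e • a v, fun e he => ?_, fun x => ?_⟩
  · exact Finset.sum_eq_zero fun v _ => by rw [hP0 v e he, zero_smul]
  · have hz : ∑ v, sgn c r v • a v = 0 := by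
      rw [← Finset.sum_filter_add_sum_filter_not _ (fun v => c v = true)]
      have hf : (Finset.univ.filter fun v => ¬ c v = true) = Finset.univ.filter fun v => c v = false :=
        Finset.filter_congr fun v _ => by simp
      rw [hf]
      have h1 : ∀ b, ∑ v ∈ Finset.univ.filter (fun v => c v = b), sgn c r v • a v =
          (if b = c r then (1 : ℤ) else -1) • ∑ v ∈ Finset.univ.filter (fun v => c v = b), a v := by
        intro b
        rw [Finset.smul_sum]
        refine Finset.sum_congr rfl fun v hv => ?_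
        simp only [sgn, (Finset.mem_filter.1 hv).2]
      rw [h1, h1, hsum]
      cases c r <;> simp
    have h2 : ∑ e ∈ G.incidenceFinset x, ∑ v, P v e • a v =
        a x - (Pi.single r (∑ v, sgn c r v • a v) : V → A) x := congrFun (hP a) x
    rw [h2, hz, Pi.single_zero, Pi.zero_apply, sub_zero]

theorem exists_kernel_iso (hconn : G.Connected) (hbip : ∀ v w : V, G.Adj v w → c v ≠ c w) (n : ℕ)
    (hn : G.edgeFinset.card + 1 = Fintype.card V + n) (A : Type v) [AddCommGroup A] :
    ∃ f : (Fin n → A) →+ (Sym2 V → A), Function.Injective f ∧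
      Set.range f = {x : Sym2 V → A | (∀ e : Sym2 V, e ∉ G.edgeSet → x e = 0) ∧
        ∀ v : V, ∑ e ∈ G.incidenceFinset v, x e = 0} := by
  classical
  obtain ⟨r⟩ := hconn.nonempty
  obtain ⟨P, hP0, hP⟩ := exists_section.{u, v} hconn hbip r
  obtain ⟨P₀, hP00, hPint⟩ := exists_section.{u, 0} hconn hbip r
  let sup : Submodule ℤ (Sym2 V → ℤ) :=
    { carrier := {x | ∀ e ∉ G.edgeSet, x e = 0}
      add_mem' := fun hx hy e he => by rw [Pi.add_apply, hx e he, hy e he, add_zero]
      zero_mem' := fun _ _ => rfl
      smul_mem' := fun z x hx e he => by rw [Pi.smul_apply, hx e he, smul_zero] }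
  let D : sup →ₗ[ℤ] (V → ℤ) := (bd G ℤ ℤ).comp sup.subtype
  have hsup : Module.finrank ℤ sup = G.edgeFinset.card := by
    let eqv : sup ≃ₗ[ℤ] (G.edgeFinset → ℤ) :=
      { toFun := fun x e => x.1 e
        map_add' := fun _ _ => rfl
        map_smul' := fun _ _ => rfl
        invFun := fun y => ⟨fun e => if h : e ∈ G.edgeFinset then y ⟨e, h⟩ else 0, fun e he =>
          dif_neg (by simpa using he)⟩
        left_inv := fun x => Subtype.ext (funext fun e => by
          by_cases h : e ∈ G.edgeFinset
          · simp [h]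
          · simp only [h, dite_false]; exact (x.2 e (by simpa using h)).symm)
        right_inv := fun y => funext fun e => by simp }
    rw [eqv.finrank_eq, Module.finrank_fintype_fun_eq_card, Fintype.card_coe]
  let S : (V → ℤ) →ₗ[ℤ] ℤ := ∑ v, sgn c r v • LinearMap.proj v
  have hS : LinearMap.range D = LinearMap.ker S := by
    ext a
    simp only [LinearMap.mem_range, LinearMap.mem_ker, S, LinearMap.sum_apply, LinearMap.smul_apply,
      LinearMap.proj_apply]
    constructor
    · rintro ⟨x, rfl⟩; exact sum_sgn_bd hbip r x.1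
    · intro ha
      refine ⟨⟨fun e => ∑ v, P₀ v e • a v, fun e he => Finset.sum_eq_zero fun v _ => by
        rw [hP00 v e he, zero_smul]⟩, ?_⟩
      refine (hPint a).trans ?_
      rw [ha]
      simp
  have hSsurj : LinearMap.range S = ⊤ := by
    rw [LinearMap.range_eq_top]
    intro z
    refine ⟨Pi.single r z, ?_⟩
    simp only [S, LinearMap.sum_apply, LinearMap.smul_apply, LinearMap.proj_apply]
    rw [Finset.sum_eq_single r (fun b _ hb => by rw [Pi.single_eq_of_ne hb, smul_zero]) (by simp)]
    simp [sgn]
  have hker : Module.finrank ℤ (LinearMap.ker D) = n := by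
    have h1 := Submodule.finrank_quotient_add_finrank (LinearMap.ker D)
    have h2 := Submodule.finrank_quotient_add_finrank (LinearMap.ker S)
    rw [(LinearMap.quotKerEquivRange D).finrank_eq, hS, hsup] at h1
    rw [(LinearMap.quotKerEquivRange S).finrank_eq, hSsurj, finrank_top, Module.finrank_self,
      Module.finrank_fintype_fun_eq_card] at h2
    omega
  let bas := Module.finBasisOfFinrankEq ℤ (LinearMap.ker D) hker
  let k : Fin n → Sym2 V → ℤ := fun l => (bas l).1.1
  have hk0 : ∀ l, ∀ e ∉ G.edgeSet, k l e = 0 := fun l => (bas l).1.2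
  have hkb : ∀ l, bd G ℤ ℤ (k l) = 0 := fun l => (bas l).2
  -- projection of a basis edge onto the kernel
  let q : Sym2 V → Sym2 V → ℤ := fun e e' =>
    if e ∈ G.edgeSet then (Pi.single e 1 : Sym2 V → ℤ) e' - ∑ v, P₀ v e' • bd G ℤ ℤ (Pi.single e 1) v
    else 0
  have hq0 : ∀ e, ∀ e' ∉ G.edgeSet, q e e' = 0 := by
    intro e e' he'
    simp only [q]
    split_ifs with he
    · rw [Pi.single_eq_of_ne (fun h : e' = e => he' (h ▸ he)), Finset.sum_eq_zero fun v _ => by
        rw [hP00 v e' he', zero_smul], sub_zero]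
    · rfl
  have hqb : ∀ e, bd G ℤ ℤ (q e) = 0 := by
    intro e
    by_cases he : e ∈ G.edgeSet
    · have : q e = Pi.single e 1 - fun e' => ∑ v, P₀ v e' • bd G ℤ ℤ (Pi.single e 1) v :=
        funext fun e' => by simp [q, he]
      rw [this, map_sub, hPint, sum_sgn_bd hbip r]
      funext v
      simp
    · rw [show q e = 0 from funext fun e' => by simp [q, he], map_zero]
  let qk : Sym2 V → LinearMap.ker D := fun e => ⟨⟨q e, hq0 e⟩, hqb e⟩
  let C : Sym2 V → Fin n → ℤ := fun e l => bas.repr (qk e) l
  have hC : ∀ e e', q e e' = ∑ l, C e l * k l e' := by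
    intro e e'
    have h : (∑ l, C e l • bas l : LinearMap.ker D).1.1 e' = q e e' := by
      rw [bas.sum_repr]
    rw [← h]
    simp [k, Finset.sum_apply]
  have hproj : ∀ {B : Type v} [AddCommGroup B] (x : Sym2 V → B) (e' : Sym2 V),
      (∀ e ∉ G.edgeSet, x e = 0) → (∀ v, bd G ℤ B x v = 0) → ∑ e, q e e' • x e = x e' := by
    intro B _ x e' hx0 hxb
    have : ∀ e, q e e' • x e = (Pi.single e 1 : Sym2 V → ℤ) e' • x e -
        ∑ v, (P₀ v e' * bd G ℤ ℤ (Pi.single e 1) v) • x e := by
      intro e
      by_cases he : e ∈ G.edgeSet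
      · simp [q, he, sub_smul, Finset.sum_smul]
      · simp [hx0 e he]
    simp only [this, Finset.sum_sub_distrib]
    rw [Finset.sum_comm, Finset.sum_eq_single e']
    · rw [Pi.single_eq_same, one_smul, Finset.sum_eq_zero fun v _ => ?_, sub_zero]
      simp only [mul_smul, ← Finset.smul_sum]
      have : ∑ e, bd G ℤ ℤ (Pi.single e 1) v • x e = bd G ℤ B x v := by
        show _ = ∑ e ∈ G.incidenceFinset v, x e
        rw [← Finset.univ_inter (G.incidenceFinset v), ← Finset.sum_ite_mem]
        refine Finset.sum_congr rfl fun e _ => ?_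
        show (∑ e'' ∈ G.incidenceFinset v, (Pi.single e 1 : Sym2 V → ℤ) e'') • x e = _
        rw [Finset.sum_pi_single']
        split_ifs <;> simp
      rw [this, hxb v, smul_zero]
    · intro b _ hb
      rw [Pi.single_eq_of_ne (Ne.symm hb), zero_smul]
    · simp
  have hgk : ∀ m l, ∑ e, C e l * k m e = if m = l then (1 : ℤ) else 0 := by
    intro m l
    have hcomb : ∑ e, k m e • qk e = bas m := by
      refine Subtype.ext (Subtype.ext (funext fun e' => ?_))
      simp only [AddSubmonoidClass.coe_finset_sum, SetLike.val_smul, Finset.sum_apply, Pi.smul_apply,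
        smul_eq_mul, qk]
      have key : ∑ e, q e e' * k m e = k m e' := by
        have h := hP (A := A)
        clear h
        have : ∀ e, q e e' * k m e = (Pi.single e 1 : Sym2 V → ℤ) e' * k m e -
            ∑ v, P₀ v e' * bd G ℤ ℤ (Pi.single e 1) v * k m e := by
          intro e
          by_cases he : e ∈ G.edgeSet
          · simp [q, he, sub_mul, Finset.sum_mul]
          · simp [hk0 m e he]
        simp only [this, Finset.sum_sub_distrib]
        rw [Finset.sum_comm, Finset.sum_eq_single e']
        · rw [Pi.single_eq_same, one_mul, Finset.sum_eq_zero fun v _ => ?_, sub_zero]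
          simp only [mul_assoc, ← Finset.mul_sum]
          have : ∑ e, bd G ℤ ℤ (Pi.single e 1) v * k m e = bd G ℤ ℤ (k m) v := by
            show _ = ∑ e ∈ G.incidenceFinset v, k m e
            rw [← Finset.univ_inter (G.incidenceFinset v), ← Finset.sum_ite_mem]
            refine Finset.sum_congr rfl fun e _ => ?_
            show (∑ e'' ∈ G.incidenceFinset v, (Pi.single e 1 : Sym2 V → ℤ) e'') * k m e = _
            rw [Finset.sum_pi_single']
            split_ifs <;> simp
          rw [this, hkb m, Pi.zero_apply, mul_zero]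
        · intro b _ hb
          rw [Pi.single_eq_of_ne (Ne.symm hb), zero_mul]
        · simp
      rw [Finset.sum_congr rfl fun e _ => mul_comm _ _]
      exact key
    have h := congrArg (fun z => bas.repr z l) hcomb
    simp only [map_sum, map_smul, Finsupp.coe_finset_sum, Finset.sum_apply, Finsupp.coe_smul,
      Pi.smul_apply, smul_eq_mul, Module.Basis.repr_self, Finsupp.single_apply] at h
    rw [← h]
    exact Finset.sum_congr rfl fun e _ => mul_comm _ _
  let f : (Fin n → A) →+ (Sym2 V → A) :=
    AddMonoidHom.mk' (fun b e => ∑ l, k l e • b l) fun b b' => funext fun e => by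
      simp [smul_add, Finset.sum_add_distrib]
  refine ⟨f, fun b b' h => funext fun l => ?_, ?_⟩
  · have e : ∀ b : Fin n → A, ∑ e, C e l • f b e = b l := by
      intro b
      simp only [f, AddMonoidHom.mk'_apply, Finset.smul_sum, smul_smul]
      rw [Finset.sum_comm]
      simp only [← Finset.sum_smul, hgk]
      simp
    rw [← e b, ← e b', h]
  · ext x
    constructor
    · rintro ⟨b, rfl⟩
      refine ⟨fun e he => ?_, fun v => ?_⟩
      · show ∑ l, k l e • b l = 0
        exact Finset.sum_eq_zero fun l _ => by rw [hk0 l e he, zero_smul]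
      show bd G ℤ A (fun e => ∑ l, k l e • b l) v = 0
      rw [bd_sum_smul]
      simp [hkb]
    · rintro ⟨hx0, hxb⟩
      refine ⟨fun l => ∑ e, C e l • x e, funext fun e' => ?_⟩
      simp only [f, AddMonoidHom.mk'_apply, Finset.smul_sum, smul_smul]
      rw [Finset.sum_comm, ← hproj x e' hx0 hxb]
      refine Finset.sum_congr rfl fun e _ => ?_
      rw [hC, Finset.sum_smul]
      exact Finset.sum_congr rfl fun l _ => by rw [mul_comm]

end GrothLib.Elem
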