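import Mathlib

/-!
`det (1 - tM) = exp (-∑ tr (M^m) t^m / m)`.
-/

namespace CharpolyRevExp

open Matrix

variable {R : Type*} [CommRing R] {n : Type*} [Fintype n] [DecidableEq n]

/-- Jacobi's formula for a matrix of polynomials. -/
lemma derivative_det (A : Matrix n n (Polynomial R)) :
    Polynomial.derivative A.det =
      (A.adjugate * A.map (fun p => Polynomial.derivative p)).trace := by
  have h1 : ∀ i, (A.updateCol i (fun j => Polynomial.derivative (A j i))).det =
      ∑ σ : Equiv.Perm n, Equiv.Perm.sign σ •
        ((∏ j ∈ Finset.univ.erase i, A (σ j) j) * Polynomial.derivative (A (σ i) i)) := by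
    intro i
    rw [det_apply]
    refine Finset.sum_congr rfl fun σ _ => ?_
    congr 1
    rw [← Finset.prod_erase_mul _ _ (Finset.mem_univ i), updateCol_self]
    congr 1
    exact Finset.prod_congr rfl fun j hj => updateCol_ne (Finset.ne_of_mem_erase hj)
  have h2 : ∀ i, (A.adjugate * A.map (fun p => Polynomial.derivative p)) i i =
      (A.updateCol i (fun j => Polynomial.derivative (A j i))).det := by
    intro i
    rw [← cramer_apply, cramer_eq_adjugate_mulVec]
    rfl
  simp only [trace, diag_apply, h2, h1]
  rw [Finset.sum_comm, det_apply, map_sum]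
  refine Finset.sum_congr rfl fun σ _ => ?_
  rw [← Finset.smul_sum, map_zsmul_unit]
  congr 1
  exact Polynomial.derivative_prod_finset
where
  map_zsmul_unit {u : ℤˣ} {p : Polynomial R} :
      Polynomial.derivative (u • p) = u • Polynomial.derivative p := by
    rw [Units.smul_def, Units.smul_def]; exact map_zsmul Polynomial.derivative _ p

theorem coe_charpolyRev_eq_exp {K : Type*} [Field K] [CharZero K] (M : Matrix n n K) :
    ((M.charpolyRev : Polynomial K) : PowerSeries K) =
      PowerSeries.subst (PowerSeries.mk fun m : ℕ => -(Matrix.trace (M ^ m)) / (m : K))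
        (PowerSeries.exp K) := by
  set L : PowerSeries K := PowerSeries.mk fun m : ℕ => -(Matrix.trace (M ^ m)) / (m : K)
  set T : PowerSeries K := PowerSeries.mk fun m : ℕ => -(Matrix.trace (M ^ (m + 1)))
  have hL0 : PowerSeries.constantCoeff L = 0 := by
    rw [← PowerSeries.coeff_zero_eq_constantCoeff_apply, PowerSeries.coeff_mk]; simp
  have hL : PowerSeries.HasSubst L := PowerSeries.HasSubst.of_constantCoeff_zero' hL0
  have hLT : PowerSeries.derivative K L = T := by
    ext m
    rw [PowerSeries.coeff_derivative, PowerSeries.coeff_mk, PowerSeries.coeff_mk,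
      Nat.cast_succ, div_mul_cancel₀]
    exact_mod_cast Nat.succ_ne_zero m
  set Q := PowerSeries.subst L (PowerSeries.exp K)
  have hQ : PowerSeries.derivative K Q = T * Q := by
    rw [PowerSeries.derivative_subst hL, PowerSeries.derivative_exp, hLT, mul_comm]
  have hQ0 : PowerSeries.coeff 0 Q = 1 := by
    rw [PowerSeries.coeff_subst' hL, finsum_eq_single _ 0]
    · simp
    · intro d hd
      simp [hL0, hd]
  set P : PowerSeries K := ((M.charpolyRev : Polynomial K) : PowerSeries K)
  have hP0 : PowerSeries.coeff 0 P = 1 := by
    rw [Polynomial.coeff_coe, Polynomial.coeff_zero_eq_eval_zero, eval_charpolyRev]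
  have hP : PowerSeries.derivative K P = T * P := by
    let φ : Polynomial K →+* PowerSeries K := Polynomial.coeToPowerSeries.ringHom
    set A : Matrix n n (Polynomial K) := 1 - (Polynomial.X : Polynomial K) • M.map Polynomial.C
    let S : Matrix n n (PowerSeries K) := Matrix.of fun i j => PowerSeries.mk fun m => (M ^ m) i j
    have hAS : A.map φ * S = 1 := by
      have e : A.map φ = 1 - (PowerSeries.X : PowerSeries K) • M.map PowerSeries.C := by
        ext i j : 1
        rcases eq_or_ne i j with rfl | h
        · simp [A, φ]; exact mul_comm _ _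
        · simp [A, φ, h]; exact mul_comm _ _
      rw [e, sub_mul, one_mul, Matrix.smul_mul]
      ext i j m
      rw [Matrix.sub_apply, Matrix.smul_apply, smul_eq_mul, map_sub]
      cases m with
      | zero => simp [S, Matrix.one_apply, PowerSeries.coeff_zero_eq_constantCoeff_apply,
          apply_ite (PowerSeries.constantCoeff (R := K))]
      | succ m =>
        rw [PowerSeries.coeff_succ_X_mul, Matrix.mul_apply, map_sum]
        simp [S, pow_succ', Matrix.mul_apply, Matrix.one_apply, apply_ite (PowerSeries.coeff (m + 1))]
    have hadj : A.adjugate.map φ = (φ A.det) • S := by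
      have h := congrArg (fun B : Matrix n n (PowerSeries K) => B * (A.map φ * S))
        (rfl : A.adjugate.map φ = A.adjugate.map φ)
      simp only at h
      calc A.adjugate.map φ = A.adjugate.map φ * (A.map φ * S) := by rw [hAS, mul_one]
        _ = (A.adjugate * A).map φ * S := by rw [← mul_assoc, Matrix.map_mul]
        _ = _ := by
          rw [adjugate_mul]
          ext i j : 1
          simp [Matrix.mul_apply, Matrix.one_apply, apply_ite φ]
    have hd : A.map (fun p => Polynomial.derivative p) = -(M.map Polynomial.C) := by
      ext i j : 1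
      simp [A, Matrix.one_apply, apply_ite (fun p : Polynomial K => Polynomial.derivative p)]
    have hdet : A.det = M.charpolyRev := rfl
    rw [PowerSeries.derivative_coe, ← hdet, derivative_det, hd]
    show φ.toAddMonoidHom ((A.adjugate * -M.map Polynomial.C).trace) = _
    rw [AddMonoidHom.map_trace φ.toAddMonoidHom]
    show ((A.adjugate * -M.map Polynomial.C).map φ).trace = _
    rw [Matrix.map_mul, hadj, Matrix.smul_mul, trace_smul, smul_eq_mul, mul_comm]
    congr 1
    ext m
    rw [Matrix.trace, map_sum, PowerSeries.coeff_mk, pow_succ, Matrix.trace, ← Finset.sum_neg_distrib]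
    refine Finset.sum_congr rfl fun i _ => ?_
    simp only [diag_apply, Matrix.mul_apply, map_sum, ← Finset.sum_neg_distrib]
    refine Finset.sum_congr rfl fun j _ => ?_
    simp [S, φ]
  refine PowerSeries.ext fun m => ?_
  induction m using Nat.strong_induction_on with
  | _ m ih =>
    cases m with
    | zero => rw [hP0, hQ0]
    | succ m =>
      have h1 := congrArg (PowerSeries.coeff m) hP
      have h2 := congrArg (PowerSeries.coeff m) hQ
      rw [PowerSeries.coeff_derivative, PowerSeries.coeff_mul] at h1 h2
      have h3 : ∀ x ∈ Finset.HasAntidiagonal.antidiagonal m, PowerSeries.coeff x.1 T * PowerSeries.coeff x.2 P =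
          PowerSeries.coeff x.1 T * PowerSeries.coeff x.2 Q := fun x hx => by
        rw [ih x.2 (by have := Finset.HasAntidiagonal.mem_antidiagonal.1 hx; omega)]
      rw [Finset.sum_congr rfl h3, ← h2] at h1
      exact mul_right_cancel₀ (Nat.cast_add_one_ne_zero m) h1

end CharpolyRevExp
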