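import Groth.Agent.Lib.Elem.RootSums
import Mathlib.Analysis.Complex.Basic
import Mathlib.RingTheory.RootsOfUnity.Complex
import Mathlib.Analysis.Complex.Norm

/-! Fourier expansion of `i (i - N) / 2 + (N² - 1) / 12`. -/

namespace GrothLib.Elem

open Complex

theorem exists_weights (N : ℕ) (ζ : ℂ) (hζ : IsPrimitiveRoot ζ N) :
    ∃ w : ℕ → ℝ, (∀ l, 0 ≤ w l) ∧ ∀ i, i < N →
      ((i : ℂ) * ((i : ℂ) - (N : ℂ)) / 2 + ((N : ℂ) ^ 2 - 1) / 12) =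
        ∑ l ∈ Finset.Ioo 0 N, (w l : ℂ) * ζ ^ (l * i) := by
  refine ⟨fun l => (Complex.normSq (1 - ζ ^ l))⁻¹, fun l => inv_nonneg.2 (Complex.normSq_nonneg _),
    fun i hi => ?_⟩
  rw [← sum_pow_div_two_sub (by norm_num) hi hζ]
  refine Finset.sum_congr rfl fun l hl => ?_
  have hn : ‖ζ ^ l‖ = 1 := by rw [norm_pow, hζ.norm'_eq_one (by omega), one_pow]
  have hinv : (ζ ^ l)⁻¹ = (starRingEnd ℂ) (ζ ^ l) := by
    rw [Complex.inv_def, Complex.normSq_eq_norm_sq, hn]; simp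
  have hz : ζ ^ l * (ζ ^ l)⁻¹ = 1 :=
    mul_inv_cancel₀ (norm_ne_zero_iff.1 (by rw [hn]; exact one_ne_zero))
  rw [hinv] at hz ⊢
  rw [show (2 : ℂ) - ζ ^ l - (starRingEnd ℂ) (ζ ^ l) = ((Complex.normSq (1 - ζ ^ l) : ℝ) : ℂ) by
    rw [Complex.normSq_eq_conj_mul_self, map_sub, map_one]; linear_combination -hz,
    Complex.ofReal_inv, div_eq_mul_inv, mul_comm]

end GrothLib.Elem
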