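import Mathlib

/-!
The length of the singular subscheme of the cuspidal cubic.
-/

namespace CuspQuot

open MvPolynomial

variable {k : Type*} [Field k]

lemma finrank_quot (a b : ℕ) :
    Module.finrank k (MvPolynomial (Fin 2) k ⧸
      Ideal.span ({X 0 ^ a, X 1 ^ b} : Set (MvPolynomial (Fin 2) k))) = a * b := by
  classical
  let e : Fin a × Fin b → (Fin 2 →₀ ℕ) := fun p =>
    Finsupp.single 0 (p.1 : ℕ) + Finsupp.single 1 (p.2 : ℕ)
  have he : Function.Injective e := fun p q h => by
    ext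
    · have := congr($h 0); simpa [e] using this
    · have := congr($h 1); simpa [e] using this
  let φ : MvPolynomial (Fin 2) k →ₗ[k] (Fin a × Fin b → k) := LinearMap.pi fun p => lcoeff k (e p)
  have hsurj : Function.Surjective φ := by
    intro f
    refine ⟨∑ p, monomial (e p) (f p), funext fun q => ?_⟩
    simp [φ, coeff_sum, coeff_monomial, he.eq_iff]
  have hset : ({X 0 ^ a, X 1 ^ b} : Set (MvPolynomial (Fin 2) k)) =
      (fun s => monomial s (1 : k)) '' {Finsupp.single 0 a, Finsupp.single 1 b} := by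
    simp [Set.image_insert_eq, X_pow_eq_monomial]
  have hker : LinearMap.ker φ =
      (Ideal.span ({X 0 ^ a, X 1 ^ b} : Set (MvPolynomial (Fin 2) k))).restrictScalars k := by
    ext f
    rw [LinearMap.mem_ker, Submodule.restrictScalars_mem, hset, mem_ideal_span_monomial_image]
    constructor
    · intro h s hs
      by_contra hne
      simp only [Set.mem_insert_iff, Set.mem_singleton_iff, exists_eq_or_imp, exists_eq_left,
        not_or, Finsupp.single_le_iff, not_le] at hne
      have hs' : s = e (⟨s 0, hne.1⟩, ⟨s 1, hne.2⟩) := by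
        ext i; fin_cases i <;> simp [e]
      have h1 : f.coeff s = 0 := by
        rw [hs']; exact congr($h (⟨s 0, hne.1⟩, ⟨s 1, hne.2⟩))
      exact mem_support_iff.1 hs h1
    · intro h
      funext p
      show f.coeff (e p) = 0
      by_contra hc
      obtain ⟨i, hi, hle⟩ := h (e p) (mem_support_iff.2 hc)
      rcases hi with rfl | rfl
      · rw [Finsupp.single_le_iff] at hle; simp [e] at hle; omega
      · rw [Finsupp.single_le_iff] at hle; simp [e] at hle; omega
  have e1 := (Submodule.quotEquivOfEq _ _ hker.symm).trans (φ.quotKerEquivOfSurjective hsurj)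
  have e2 := Submodule.Quotient.restrictScalarsEquiv k
    (Ideal.span ({X 0 ^ a, X 1 ^ b} : Set (MvPolynomial (Fin 2) k)))
  rw [← e2.finrank_eq, e1.finrank_eq, Module.finrank_fintype_fun_eq_card]
  simp

theorem finrank_jacobian_quotient_cusp (p : ℕ) [CharP k p] :
    Module.finrank k (MvPolynomial (Fin 2) k ⧸ Ideal.span
      ({X 1 ^ 2 - X 0 ^ 3, pderiv 0 (X 1 ^ 2 - X 0 ^ 3), pderiv 1 (X 1 ^ 2 - X 0 ^ 3)} :
        Set (MvPolynomial (Fin 2) k))) = (if p = 2 then 4 else if p = 3 then 3 else 2) := by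
  have h0 : pderiv (0 : Fin 2) (X 1 ^ 2 - X 0 ^ 3 : MvPolynomial (Fin 2) k) = -(C 3 * X 0 ^ 2) := by
    simp [pderiv_X_of_ne, ← map_ofNat C]
  have h1 : pderiv (1 : Fin 2) (X 1 ^ 2 - X 0 ^ 3 : MvPolynomial (Fin 2) k) = C 2 * X 1 := by
    simp [pderiv_X_of_ne, ← map_ofNat C]
  have hc : ∀ (m : ℕ), (m : k) = 0 ↔ p ∣ m := fun m => CharP.cast_eq_zero_iff k p m
  have hne1 : p ≠ 1 := CharP.ringChar_ne_one (R := k) |> fun h => by rwa [ringChar.eq k p] at h
  rw [h0, h1]
  have cube : ∀ {I : Ideal (MvPolynomial (Fin 2) k)} {a : MvPolynomial (Fin 2) k},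
      a ^ 2 ∈ I → a ^ 3 ∈ I := fun {I a} h => by rw [pow_succ]; exact I.mul_mem_right _ h
  have key : ∀ (u : k) (f : MvPolynomial (Fin 2) k), u ≠ 0 →
      f ∈ (Ideal.span {C u * f} : Ideal (MvPolynomial (Fin 2) k)) := fun u f hu =>
    Ideal.mem_span_singleton.2 ⟨C u⁻¹, by rw [mul_assoc, mul_left_comm, ← map_mul,
      mul_inv_cancel₀ hu, map_one, mul_one]⟩
  by_cases hp2 : p = 2
  · subst hp2
    have h2z : (2 : k) = 0 := by exact_mod_cast (hc 2).2 dvd_rfl
    have h3 : (3 : k) ≠ 0 := fun h => by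
      have := (hc 3).1 (by exact_mod_cast h); omega
    rw [if_pos rfl]
    refine Eq.trans ?_ ((finrank_quot (k := k) 2 2).trans (by norm_num))
    suffices h : (Ideal.span {X 1 ^ 2 - X 0 ^ 3, -(C (3 : k) * X 0 ^ 2), C (2 : k) * X 1} :
        Ideal (MvPolynomial (Fin 2) k)) = Ideal.span {X 0 ^ 2, X 1 ^ 2} by rw [h]
    refine le_antisymm (Ideal.span_le.2 ?_) (Ideal.span_le.2 ?_)
    · rintro f (rfl | rfl | rfl)
      · exact Ideal.sub_mem _ (Ideal.subset_span (Or.inr rfl))
          (cube (Ideal.subset_span (Set.mem_insert _ _)))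
      · exact neg_mem (Ideal.mul_mem_left _ _ (Ideal.subset_span (by simp)))
      · rw [h2z, map_zero, zero_mul]; exact zero_mem _
    · have hX : (X 0 ^ 2 : MvPolynomial (Fin 2) k) ∈
          Ideal.span {X 1 ^ 2 - X 0 ^ 3, -(C (3 : k) * X 0 ^ 2), C (2 : k) * X 1} :=
        Ideal.span_mono (s := {C (-3 : k) * X 0 ^ 2}) (by simp) (key _ _ (neg_ne_zero.2 h3))
      rintro f (rfl | rfl)
      · exact hX
      · have := Ideal.add_mem _ (Ideal.subset_span
          (s := {X 1 ^ 2 - X 0 ^ 3, -(C (3 : k) * X 0 ^ 2), C (2 : k) * X 1})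
          (Set.mem_insert (X 1 ^ 2 - X 0 ^ 3) _)) (Ideal.mul_mem_left _ (X 0) hX)
        rw [SetLike.mem_coe]
        convert! this using 1; ring
  · have h2 : (2 : k) ≠ 0 := fun h => by
      have h' := (hc 2).1 (by exact_mod_cast h)
      rcases (Nat.dvd_prime Nat.prime_two).1 h' with h'' | h''
      · exact hne1 h''
      · exact hp2 h''
    have hY : (X 1 : MvPolynomial (Fin 2) k) ∈
        Ideal.span {X 1 ^ 2 - X 0 ^ 3, -(C (3 : k) * X 0 ^ 2), C (2 : k) * X 1} :=
      Ideal.span_mono (s := {C (2 : k) * X 1}) (by simp) (key _ _ h2)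
    rw [if_neg hp2]
    by_cases hp3 : p = 3
    · subst hp3
      have h3 : (3 : k) = 0 := by exact_mod_cast (hc 3).2 dvd_rfl
      rw [if_pos rfl]
      refine Eq.trans ?_ ((finrank_quot (k := k) 3 1).trans (by norm_num))
      suffices h : (Ideal.span {X 1 ^ 2 - X 0 ^ 3, -(C (3 : k) * X 0 ^ 2), C (2 : k) * X 1} :
          Ideal (MvPolynomial (Fin 2) k)) = Ideal.span {X 0 ^ 3, X 1 ^ 1} by
        rw [h]
      refine le_antisymm (Ideal.span_le.2 ?_) (Ideal.span_le.2 ?_)
      · rintro f (rfl | rfl | rfl)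
        · refine Ideal.sub_mem _ ?_ (Ideal.subset_span (Set.mem_insert _ _))
          rw [pow_two]
          exact Ideal.mul_mem_left _ _ (Ideal.subset_span (Or.inr (pow_one _).symm))
        · rw [h3, map_zero, zero_mul, neg_zero]; exact zero_mem _
        · exact Ideal.mul_mem_left _ _ (Ideal.subset_span (by simp))
      · rintro f (rfl | rfl)
        · have := Ideal.sub_mem _ (Ideal.mul_mem_left _ (X 1) hY) (Ideal.subset_span
            (s := {X 1 ^ 2 - X 0 ^ 3, -(C (3 : k) * X 0 ^ 2), C (2 : k) * X 1})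
            (Set.mem_insert (X 1 ^ 2 - X 0 ^ 3) _))
          rw [SetLike.mem_coe]
          convert! this using 1; ring
        · rw [pow_one]; exact hY
    · have h3 : (3 : k) ≠ 0 := fun h => by
        have h' := (hc 3).1 (by exact_mod_cast h)
        rcases (Nat.dvd_prime Nat.prime_three).1 h' with h'' | h''
        · exact hne1 h''
        · exact hp3 h''
      rw [if_neg hp3]
      refine Eq.trans ?_ ((finrank_quot (k := k) 2 1).trans (by norm_num))
      suffices h : (Ideal.span {X 1 ^ 2 - X 0 ^ 3, -(C (3 : k) * X 0 ^ 2), C (2 : k) * X 1} :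
          Ideal (MvPolynomial (Fin 2) k)) = Ideal.span {X 0 ^ 2, X 1 ^ 1} by
        rw [h]
      refine le_antisymm (Ideal.span_le.2 ?_) (Ideal.span_le.2 ?_)
      · rintro f (rfl | rfl | rfl)
        · refine Ideal.sub_mem _ ?_ (cube (Ideal.subset_span (Set.mem_insert _ _)))
          rw [pow_two]
          exact Ideal.mul_mem_left _ _ (Ideal.subset_span (Or.inr (pow_one _).symm))
        · exact neg_mem (Ideal.mul_mem_left _ _ (Ideal.subset_span (by simp)))
        · exact Ideal.mul_mem_left _ _ (Ideal.subset_span (by simp))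
      · rintro f (rfl | rfl)
        · exact Ideal.span_mono (s := {C (-3 : k) * X 0 ^ 2}) (by simp) (key _ _ (neg_ne_zero.2 h3))
        · rw [pow_one]; exact hY

end CuspQuot
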