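import Mathlib

/-!
The inverse of a one-dimensional formal group law.
-/

namespace FglInverse

open MvPowerSeries

variable {R : Type*} [CommRing R] (F : FormalGroup R)

local notation "⟪" a ", " b "⟫" => (F.toPowerSeries.subst ![a, b] : PowerSeries R)

lemma hasSubst_pair {a b : PowerSeries R} (ha : PowerSeries.constantCoeff a = 0)
    (hb : PowerSeries.constantCoeff b = 0) : HasSubst ![a, b] :=
  hasSubst_of_constantCoeff_zero fun s => by fin_cases s <;> simpa

lemma coeff_key {g g' : PowerSeries R} (hg : PowerSeries.constantCoeff g = 0)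
    (hg' : PowerSeries.constantCoeff g' = 0) (n : ℕ)
    (h : ∀ i < n, PowerSeries.coeff i g = PowerSeries.coeff i g') :
    PowerSeries.coeff n ⟪PowerSeries.X, g⟫ - PowerSeries.coeff n g =
      PowerSeries.coeff n ⟪PowerSeries.X, g'⟫ - PowerSeries.coeff n g' := by
  have hs := hasSubst_pair (a := PowerSeries.X) (by simp) hg
  have hs' := hasSubst_pair (a := PowerSeries.X) (by simp) hg'
  have hdvd : (PowerSeries.X : PowerSeries R) ^ n ∣ g - g' :=
    PowerSeries.X_pow_dvd_iff.2 fun i hi => by rw [map_sub, h i hi, sub_self]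
  rw [sub_eq_sub_iff_sub_eq_sub]
  simp only [PowerSeries.coeff]
  rw [coeff_subst hs, coeff_subst hs',
    ← finsum_sub_distrib (coeff_subst_finite hs _ _) (coeff_subst_finite hs' _ _),
    finsum_eq_single _ (Finsupp.single 1 1)]
  · simp only [Finsupp.prod_single_index, pow_zero, pow_one, F.lin_coeff_Y, one_smul,
      Matrix.cons_val_one, Matrix.cons_val_fin_one]
  · intro d hd
    have hprod : ∀ q : PowerSeries R,
        (d.prod fun s e => ![PowerSeries.X, q] s ^ e) = PowerSeries.X ^ d 0 * q ^ d 1 := by
      intro q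
      rw [Finsupp.prod_fintype _ _ (fun i => pow_zero _), Fin.prod_univ_two]
      simp
    rw [hprod, hprod, ← smul_sub, ← map_sub, ← mul_sub]
    by_cases h1 : d 1 = 0
    · simp [h1]
    have hdvd' : (PowerSeries.X : PowerSeries R) ^ (n + 1) ∣
        PowerSeries.X ^ d 0 * (g ^ d 1 - g' ^ d 1) := by
      rw [pow_succ']
      by_cases h0 : d 0 = 0
      · rw [h0, pow_zero, one_mul, ← geom_sum₂_mul]
        refine mul_dvd_mul (Finset.dvd_sum fun i hi => ?_) hdvd
        have h2 : 2 ≤ d 1 := by
          by_contra h2
          apply hd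
          ext s; fin_cases s <;> simp [h0]
          omega
        have hgX : (PowerSeries.X : PowerSeries R) ∣ g := PowerSeries.X_dvd_iff.2 hg
        have hgX' : (PowerSeries.X : PowerSeries R) ∣ g' := PowerSeries.X_dvd_iff.2 hg'
        rcases Nat.eq_zero_or_pos i with hi0 | hi0
        · exact Dvd.dvd.mul_left (dvd_pow hgX' (by omega)) _
        · exact Dvd.dvd.mul_right (dvd_pow hgX hi0.ne') _
      · exact mul_dvd_mul (dvd_pow_self _ h0) (hdvd.trans (sub_dvd_pow_sub_pow _ _ _))
    have := PowerSeries.X_pow_dvd_iff.1 hdvd' n (Nat.lt_succ_self n)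
    simp only [PowerSeries.coeff] at this
    rw [this, smul_zero]

lemma constantCoeff_pair {a b : PowerSeries R} (ha : PowerSeries.constantCoeff a = 0)
    (hb : PowerSeries.constantCoeff b = 0) : PowerSeries.constantCoeff ⟪a, b⟫ = 0 :=
  constantCoeff_subst_eq_zero (hasSubst_pair ha hb) (fun s => by fin_cases s <;> simpa)
    F.zero_constantCoeff

/-- successive approximations of the inverse -/
noncomputable def approx : ℕ → PowerSeries R
  | 0 => 0
  | n + 1 => approx n - PowerSeries.monomial (n + 1)
      (PowerSeries.coeff (n + 1) ⟪PowerSeries.X, approx n⟫)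

lemma approx_coeff_of_gt : ∀ (n i : ℕ), n < i → PowerSeries.coeff i (approx F n) = 0
  | 0, i, _ => by simp [approx]
  | n + 1, i, h => by
    rw [approx, map_sub, approx_coeff_of_gt n i (by omega), PowerSeries.coeff_monomial,
      if_neg (by omega), sub_zero]

lemma approx_coeff_stable {i n : ℕ} (h : i ≤ n) :
    PowerSeries.coeff i (approx F n) = PowerSeries.coeff i (approx F i) := by
  induction n, h using Nat.le_induction with
  | base => rfl
  | succ n hn ih =>
    rw [approx, map_sub, PowerSeries.coeff_monomial, if_neg (by omega), sub_zero, ih]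

lemma approx_constantCoeff (n : ℕ) : PowerSeries.constantCoeff (approx F n) = 0 := by
  rw [← PowerSeries.coeff_zero_eq_constantCoeff_apply, approx_coeff_stable F (Nat.zero_le n)]
  simp [approx]

/-- right inverse of `X` -/
noncomputable def inv : PowerSeries R := PowerSeries.mk fun n => PowerSeries.coeff n (approx F n)

lemma inv_constantCoeff : PowerSeries.constantCoeff (inv F) = 0 := by
  rw [← PowerSeries.coeff_zero_eq_constantCoeff_apply]
  simp [inv, approx]

lemma subst_inv : ⟪PowerSeries.X, inv F⟫ = 0 := by
  ext n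
  rw [map_zero]
  cases n with
  | zero =>
    rw [PowerSeries.coeff_zero_eq_constantCoeff_apply]
    exact constantCoeff_pair F (by simp) (inv_constantCoeff F)
  | succ n =>
    have h := coeff_key F (inv_constantCoeff F) (approx_constantCoeff F n) (n + 1) (fun i hi => by
      rw [inv, PowerSeries.coeff_mk, approx_coeff_stable F (Nat.lt_succ_iff.1 hi)])
    rw [approx_coeff_of_gt F n (n + 1) (by omega), sub_zero] at h
    have h2 : PowerSeries.coeff (n + 1) (inv F) =
        - PowerSeries.coeff (n + 1) ⟪PowerSeries.X, approx F n⟫ := by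
      rw [inv, PowerSeries.coeff_mk, approx, map_sub, approx_coeff_of_gt F n (n + 1) (by omega),
        PowerSeries.coeff_monomial, if_pos rfl, zero_sub]
    rw [h2, sub_neg_eq_add, add_eq_right] at h
    exact h

lemma hasSubst' {f : PowerSeries R} (hf : PowerSeries.constantCoeff f = 0) :
    PowerSeries.HasSubst (f : PowerSeries R) :=
  PowerSeries.HasSubst.of_constantCoeff_zero' hf

lemma exists_right {f : PowerSeries R} (hf : PowerSeries.constantCoeff f = 0) :
    ∃ h : PowerSeries R, PowerSeries.constantCoeff h = 0 ∧ ⟪f, h⟫ = 0 := by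
  refine ⟨PowerSeries.subst f (inv F), ?_, ?_⟩
  · exact PowerSeries.constantCoeff_subst_eq_zero hf _ (inv_constantCoeff F)
  · have hs : HasSubst ![PowerSeries.X, inv F] := hasSubst_pair (by simp) (inv_constantCoeff F)
    have h := congrArg (PowerSeries.subst f) (subst_inv F)
    rw [← PowerSeries.coe_substAlgHom (hasSubst' hf), map_zero,
      PowerSeries.coe_substAlgHom (hasSubst' hf), PowerSeries.subst,
      subst_comp_subst_apply hs (hasSubst' hf).const] at h
    rw [← h]
    congr 1
    funext s
    fin_cases s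
    · simp [← PowerSeries.subst_def, PowerSeries.subst_X (hasSubst' hf)]
    · simp [← PowerSeries.subst_def]

theorem exists_inverse_series_unique :
    ∃ g : PowerSeries R, g.constantCoeff = 0 ∧
      ⟪PowerSeries.X, g⟫ = 0 ∧ ⟪g, PowerSeries.X⟫ = 0 ∧
      ∀ k : PowerSeries R, k.constantCoeff = 0 →
        (⟪PowerSeries.X, k⟫ = 0 ∨ ⟪k, PowerSeries.X⟫ = 0) → k = g := by
  set g := inv F
  have hg := inv_constantCoeff F
  have hX : PowerSeries.constantCoeff (PowerSeries.X : PowerSeries R) = 0 := by simp
  have hr := subst_inv F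
  obtain ⟨h, hh, hgh⟩ := exists_right F hg
  have hXh : h = PowerSeries.X := by
    have := F.assoc' (hasSubst' hX) (hasSubst' hg) (hasSubst' hh)
    rw [hr, hgh, F.zero_add (hasSubst' hh), F.add_zero (hasSubst' hX)] at this
    exact this
  subst hXh
  refine ⟨g, hg, hr, hgh, fun k hk hor => ?_⟩
  rcases hor with h1 | h1
  · have := F.assoc' (hasSubst' hg) (hasSubst' hX) (hasSubst' hk)
    rw [hgh, h1, F.zero_add (hasSubst' hk), F.add_zero (hasSubst' hg)] at this
    exact this
  · have := F.assoc' (hasSubst' hk) (hasSubst' hX) (hasSubst' hg)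
    rw [h1, hr, F.zero_add (hasSubst' hg), F.add_zero (hasSubst' hk)] at this
    exact this.symm

end FglInverse
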