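import Groth.Prelude.Def_W4c6eohyperellchar2Gc
import Mathlib.LinearAlgebra.Pi
import Mathlib.Tactic.Abel
import Mathlib.Algebra.CharP.Two

/-! Values of `F` and `V` on the basis of the explicit module. -/

namespace GrothLib.Elem.GcMod

open W4c6eohyperellchar2

universe u

variable {c : ℕ} {k : Type u} [Field k]

theorem coefX_X (n m : ℕ) : coefX (X c k n) m = if n = m ∧ 1 ≤ m ∧ m ≤ c then 1 else 0 := by
  unfold coefX X
  split_ifs with h1 h2 h3 <;> (try dsimp only) <;> (try split_ifs) <;> first | rfl | (exfalso; omega)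

theorem coefY_X (n m : ℕ) : coefY (X c k n) m = 0 := by
  unfold coefY X
  split_ifs <;> rfl

theorem coefY_Y (n m : ℕ) : coefY (Y c k n) m = if n = m ∧ 1 ≤ m ∧ m ≤ c then 1 else 0 := by
  unfold coefY Y
  split_ifs with h1 h2 h3 <;> (try dsimp only) <;> (try split_ifs) <;> first | rfl | (exfalso; omega)

theorem coefX_Y (n m : ℕ) : coefX (Y c k n) m = 0 := by
  unfold coefX Y
  split_ifs <;> rfl

theorem F_X_even {j : ℕ} (hj : j ≤ c) (h1 : 1 ≤ j) (he : j % 2 = 0) : F c k (X c k j) = X c k (j / 2) := by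
  refine Prod.ext (funext fun i => ?_) (funext fun i => ?_)
  · simp only [F, coefX_X]
    simp only [X]
    split_ifs <;> first | (simp; done) | (exfalso; omega)
  · simp only [F, coefX_X]
    simp only [X, Pi.zero_apply]
    split_ifs <;> first | (simp; done) | (exfalso; omega)

theorem F_X_odd {j : ℕ} (hj : j ≤ c) (ho : j % 2 = 1) : F c k (X c k j) = Y c k (c - (j - 1) / 2) := by
  refine Prod.ext (funext fun i => ?_) (funext fun i => ?_)
  · simp only [F, coefX_X]
    simp only [Y, Pi.zero_apply]
    split_ifs <;> first | (simp; done) | (exfalso; omega)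
  · simp only [F, coefX_X]
    simp only [Y]
    have := i.isLt
    split_ifs <;> first | (simp; done) | (exfalso; omega)

variable [CharP k 2] [PerfectRing k 2]

theorem V_X {j : ℕ} (hj : j ≤ c) (hcj : c < 2 * j) : V c k (X c k j) = Y c k (2 * c - 2 * j + 1) := by
  refine Prod.ext rfl (funext fun i => ?_)
  simp only [V, coefX_X, coefY_X]
  simp only [Y]
  have := i.isLt
  split_ifs <;> first | (simp; done) | (exfalso; omega)

theorem V_Y {m : ℕ} (h1 : 1 ≤ m) (hm : 2 * m ≤ c) : V c k (Y c k m) = Y c k (2 * m) := by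
  refine Prod.ext rfl (funext fun i => ?_)
  simp only [V, coefY_Y, coefX_Y]
  simp only [Y]
  have := i.isLt
  split_ifs <;> first | (simp; done) | (exfalso; omega)

omit [CharP k 2] [PerfectRing k 2] in
theorem eq_sum (v : GcMod c k) :
    v = ∑ i : Fin c, (v.1 i • X c k (i.val + 1) + v.2 i • Y c k (i.val + 1)) := by
  have hX : ∀ i : Fin c, X c k (i.val + 1) = ((Pi.single i 1 : Fin c → k), 0) := fun i =>
    Prod.ext (funext fun l => by simp [X, Pi.single_apply, Fin.ext_iff]) rfl
  have hY : ∀ i : Fin c, Y c k (i.val + 1) = (0, (Pi.single i 1 : Fin c → k)) := fun i =>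
    Prod.ext rfl (funext fun l => by simp [Y, Pi.single_apply, Fin.ext_iff])
  refine Prod.ext (funext fun l => ?_) (funext fun l => ?_) <;>
    simp [hX, hY, Prod.fst_sum, Prod.snd_sum, Finset.sum_apply, Pi.single_apply]

end GrothLib.Elem.GcMod
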