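import Groth.Prelude.Def_W4c6eohyperellchar2Gc
import Mathlib

/-!
The final filtration of the nilpotent block.
-/

namespace GcNil

open W4c6eohyperellchar2

universe u

variable {c : ℕ} {k : Type u} [Field k]

lemma mem_Nfil {i : ℕ} {v : GcMod c k} :
    v ∈ Nfil c k i ↔ (∀ l : Fin c, i < l.val + 1 → v.2 l = 0) ∧
      (∀ l : Fin c, l.val + 1 ≤ 2 * c - i → v.1 l = 0) := by
  constructor
  · intro hv
    rw [Nfil] at hv
    induction hv using Submodule.span_induction with
    | mem x hx =>
      rcases hx with ⟨n, hn, rfl⟩ | ⟨n, hn, rfl⟩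
      · obtain ⟨h1, h2⟩ := hn
        refine ⟨fun l hl => ?_, fun l _ => rfl⟩
        have : n ≤ i := h2.trans (min_le_left _ _)
        simp only [Y]
        rw [if_neg (by omega)]
      · obtain ⟨h1, h2⟩ := hn
        refine ⟨fun l _ => rfl, fun l hl => ?_⟩
        simp only [X]
        rw [if_neg (by omega)]
    | zero => exact ⟨fun _ _ => rfl, fun _ _ => rfl⟩
    | add x y _ _ hx hy =>
      exact ⟨fun l hl => by rw [Prod.snd_add, Pi.add_apply, hx.1 l hl, hy.1 l hl, add_zero],
        fun l hl => by rw [Prod.fst_add, Pi.add_apply, hx.2 l hl, hy.2 l hl, add_zero]⟩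
    | smul a x _ hx =>
      exact ⟨fun l hl => by rw [Prod.smul_snd, Pi.smul_apply, hx.1 l hl, smul_zero],
        fun l hl => by rw [Prod.smul_fst, Pi.smul_apply, hx.2 l hl, smul_zero]⟩
  · rintro ⟨h2, h1⟩
    have hv : v = ∑ l : Fin c, (v.1 l • X c k (l.val + 1) + v.2 l • Y c k (l.val + 1)) := by
      refine Prod.ext (funext fun l => ?_) (funext fun l => ?_) <;>
        simp [X, Y, Prod.fst_sum, Prod.snd_sum, Finset.sum_apply, Fin.val_inj]
    rw [hv]
    refine Submodule.sum_mem _ fun l _ => add_mem ?_ ?_
    · by_cases hl : l.val + 1 ≤ 2 * c - i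
      · rw [h1 l hl, zero_smul]; exact zero_mem _
      · exact Submodule.smul_mem _ _ (Submodule.subset_span
          (Or.inr ⟨l.val + 1, ⟨by omega, l.isLt⟩, rfl⟩))
    · by_cases hl : i < l.val + 1
      · rw [h2 l hl, zero_smul]; exact zero_mem _
      · exact Submodule.smul_mem _ _ (Submodule.subset_span
          (Or.inl ⟨l.val + 1, ⟨by omega, le_min (by omega) l.isLt⟩, rfl⟩))

lemma finrank_Nfil {i : ℕ} (hi : i ≤ 2 * c) : Module.finrank k (Nfil c k i) = i := by
  classical
  let g : Fin i → Fin c ⊕ Fin c := fun l =>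
    if h : l.val < c then Sum.inr ⟨l.val, h⟩ else Sum.inl ⟨2 * c - l.val - 1, by omega⟩
  have hg : Function.Injective g := by
    intro l l' h
    apply Fin.ext
    have := l.isLt; have := l'.isLt
    simp only [g] at h
    split_ifs at h <;>
      simp only [Sum.inl.injEq, Sum.inr.injEq, Fin.mk.injEq, reduceCtorEq] at h <;> omega
  let B := ((Pi.basisFun k (Fin c)).prod (Pi.basisFun k (Fin c)))
  have hli := B.linearIndependent.comp g hg
  have hspan : Submodule.span k (Set.range (B ∘ g)) = Nfil c k i := by
    have hX : ∀ l : Fin c, B (Sum.inl l) = X c k (l.val + 1) := fun l => by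
      refine Prod.ext (funext fun j => ?_) (funext fun j => ?_) <;>
        simp [B, X, Pi.single_apply, Fin.val_inj]
    have hY : ∀ l : Fin c, B (Sum.inr l) = Y c k (l.val + 1) := fun l => by
      refine Prod.ext (funext fun j => ?_) (funext fun j => ?_) <;>
        simp [B, Y, Pi.single_apply, Fin.val_inj]
    refine le_antisymm (Submodule.span_le.2 ?_) (Submodule.span_le.2 ?_)
    · rintro _ ⟨l, rfl⟩
      have := l.isLt
      simp only [Function.comp_apply, g]
      split_ifs with h
      · rw [hY]
        exact Submodule.subset_span (Or.inl ⟨_, ⟨Nat.le_add_left 1 _, le_min (show l.val + 1 ≤ i by omega) h⟩, rfl⟩)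
      · rw [hX]
        exact Submodule.subset_span (Or.inr ⟨_, ⟨show 2 * c - i < 2 * c - l.val - 1 + 1 by omega,
          show 2 * c - l.val - 1 + 1 ≤ c by omega⟩, rfl⟩)
    · rintro _ (⟨n, ⟨h1, h2⟩, rfl⟩ | ⟨n, ⟨h1, h2⟩, rfl⟩)
      · have h3 := h2.trans (min_le_left _ _)
        have h4 := h2.trans (min_le_right _ _)
        refine Submodule.subset_span ⟨⟨n - 1, by omega⟩, ?_⟩
        simp only [Function.comp_apply, g]
        rw [dif_pos (show n - 1 < c by omega), hY]
        show Y c k (n - 1 + 1) = Y c k n
        rw [show n - 1 + 1 = n by omega]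
      · refine Submodule.subset_span ⟨⟨2 * c - n, by omega⟩, ?_⟩
        simp only [Function.comp_apply, g]
        rw [dif_neg (show ¬ 2 * c - n < c by omega), hX]
        show X c k (2 * c - (2 * c - n) - 1 + 1) = X c k n
        rw [show 2 * c - (2 * c - n) - 1 + 1 = n by omega]
  rw [← hspan, finrank_span_eq_card hli, Fintype.card_fin]

variable [CharP k 2] [PerfectRing k 2]

lemma sqrt_mul_sq (r x : k) :
    (frobeniusEquiv k 2).symm (r ^ 2 * x) = r * (frobeniusEquiv k 2).symm x := by
  rw [map_mul, frobeniusEquiv_symm_pow (p := 2) (x := r)]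

lemma NV_add (a : ℕ → k) (v w : GcMod c k) : NV c k a (v + w) = NV c k a v + NV c k a w := by
  refine Prod.ext (by simp [NV]) (funext fun l => ?_)
  simp only [NV, coefY, Prod.snd_add, Prod.fst_add, Pi.add_apply, add_mul]
  have e : ∀ (p : Prop) [Decidable p] (x y : k),
      (if p then (frobeniusEquiv k 2).symm (x + y) else 0) =
        (if p then (frobeniusEquiv k 2).symm x else 0) + (if p then (frobeniusEquiv k 2).symm y else 0) :=
    fun p _ x y => by split_ifs <;> simp
  simp only [e, Finset.sum_add_distrib]
  split_ifs <;> simp <;> abel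

lemma NV_smul (a : ℕ → k) (r : k) (v : GcMod c k) : NV c k a (r ^ 2 • v) = r • NV c k a v := by
  refine Prod.ext (by simp [NV]) (funext fun l => ?_)
  simp only [NV, coefY, Prod.smul_snd, Prod.smul_fst, Pi.smul_apply, smul_eq_mul, mul_assoc,
    mul_add, Finset.mul_sum, mul_ite, mul_zero]
  refine congrArg₂ (· + ·) ?_ (Finset.sum_congr rfl fun j _ => ?_)
  · split_ifs
    · exact sqrt_mul_sq _ _
    · simp
  · split_ifs
    · exact sqrt_mul_sq _ _
    · rfl

theorem final_filtration (a : ℕ → k) (ha : a c ≠ 0) (i : ℕ) (hi : i ≤ 2 * c) :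
    Module.finrank k (Nfil c k i) = i ∧
      NV c k a '' (Nfil c k i : Set (GcMod c k)) = (Nfil c k (i / 2) : Set (GcMod c k)) ∧
      NF c k a ⁻¹' (Nfil c k i : Set (GcMod c k)) =
        (Nfil c k (c + (i + 1) / 2) : Set (GcMod c k)) := by
  classical
  refine ⟨finrank_Nfil hi, Set.Subset.antisymm ?_ ?_, ?_⟩
  · rintro _ ⟨v, hv, rfl⟩
    obtain ⟨h2, h1⟩ := mem_Nfil.1 hv
    refine mem_Nfil.2 ⟨fun l hl => ?_, fun l _ => rfl⟩
    have e1 : coefY v (2 * (l.val + 1)) = 0 := by
      unfold coefY
      split_ifs with h
      · exact h2 _ (show i < 2 * (l.val + 1) - 1 + 1 by omega)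
      · rfl
    simp only [NV, e1, map_zero, zero_add]
    refine Finset.sum_eq_zero fun j _ => ?_
    split_ifs with h
    · rw [h1 j (by omega), zero_mul, map_zero]
    · rfl
  · let S : Submodule k (GcMod c k) :=
      { carrier := NV c k a '' (Nfil c k i : Set (GcMod c k))
        add_mem' := by
          rintro _ _ ⟨v, hv, rfl⟩ ⟨w, hw, rfl⟩
          exact ⟨v + w, add_mem hv hw, NV_add a v w⟩
        zero_mem' := ⟨0, zero_mem _, by
          refine Prod.ext rfl (funext fun l => ?_)
          simp [NV, coefY]⟩
        smul_mem' := by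
          rintro r _ ⟨v, hv, rfl⟩
          exact ⟨r ^ 2 • v, Submodule.smul_mem _ _ hv, NV_smul a r v⟩ }
    show (Nfil c k (i / 2) : Set (GcMod c k)) ⊆ (S : Set (GcMod c k))
    refine SetLike.coe_subset_coe.2 (Submodule.span_le.2 ?_)
    rintro _ (⟨n, hn, rfl⟩ | ⟨n, ⟨h1, h2⟩, rfl⟩)
    swap
    · omega
    induction n using Nat.strong_induction_on with
    | _ n ih =>
      obtain ⟨h1, h2⟩ := hn
      have h3 := h2.trans (min_le_left _ _)
      have h4 := h2.trans (min_le_right _ _)
      by_cases hc : 2 * n ≤ c
      · refine ⟨Y c k (2 * n), Submodule.subset_span (Or.inl ⟨2 * n, ⟨by omega, le_min (by omega) hc⟩, rfl⟩), ?_⟩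
        refine Prod.ext rfl (funext fun l => ?_)
        have hl := l.isLt
        simp only [NV, coefY, Y, Pi.zero_apply, zero_mul, map_zero, ite_self, Finset.sum_const_zero,
          add_zero]
        split_ifs <;> first | (simp; done) | (exfalso; omega)
      · have hj : 2 * (c - n) + 1 ≤ c := by omega
        have hmem : NV c k a (X c k (2 * (c - n) + 1)) ∈ S :=
          ⟨_, Submodule.subset_span (Or.inr ⟨_, ⟨by omega, hj⟩, rfl⟩), rfl⟩
        set g : ℕ → k := fun m => (frobeniusEquiv k 2).symm (a (m + (c - n)))
        have heq : NV c k a (X c k (2 * (c - n) + 1)) =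
            ∑ m ∈ Finset.Icc 1 n, g m • Y c k m := by
          refine Prod.ext (funext fun l => ?_) (funext fun l => ?_)
          · simp [NV, Y, Prod.fst_sum, Finset.sum_apply]
          simp only [NV, coefY, X, Pi.zero_apply, dite_eq_ite, ite_self, map_zero, zero_add,
            Prod.snd_sum, Finset.sum_apply, Prod.smul_snd, Y, Pi.smul_apply, smul_eq_mul, mul_ite,
            mul_one, mul_zero, ite_mul, one_mul, zero_mul]
          rw [Finset.sum_eq_single (⟨2 * (c - n), by omega⟩ : Fin c), Finset.sum_ite_eq]
          · simp only [Finset.mem_Icc, g]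
            have e : (2 * (c - n)) / 2 = c - n := by omega
            simp only [e]
            split_ifs <;> first | rfl | (exfalso; omega)
          · intro j _ hjne
            have : j.val ≠ 2 * (c - n) := fun h => hjne (Fin.ext h)
            split_ifs <;> first | rfl | (exfalso; omega) | simp
          · simp
        rw [heq, ← Finset.add_sum_erase _ _ (Finset.mem_Icc.2 ⟨h1, le_rfl⟩)] at hmem
        have hrest : ∑ m ∈ (Finset.Icc 1 n).erase n, g m • Y c k m ∈ S := by
          refine S.sum_mem fun m hm => S.smul_mem _ ?_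
          obtain ⟨hne, hm⟩ := Finset.mem_erase.1 hm
          rw [Finset.mem_Icc] at hm
          exact ih m (by omega) ⟨hm.1, le_min (by omega) (by omega)⟩
        have hg : g n ≠ 0 := by
          simp only [g, show n + (c - n) = c by omega]
          exact (map_ne_zero_iff _ (frobeniusEquiv k 2).symm.injective).2 ha
        have := S.smul_mem (g n)⁻¹ ((S.add_mem_iff_left hrest).1 hmem)
        rwa [smul_smul, inv_mul_cancel₀ hg, one_smul] at this
  · ext v
    simp only [Set.mem_preimage, SetLike.mem_coe, mem_Nfil]
    constructor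
    · rintro ⟨hy, hx⟩
      refine ⟨fun l hl => absurd l.isLt (by omega), ?_⟩
      suffices h : ∀ m : ℕ, ∀ (hm : m < c), m + 1 ≤ 2 * c - (c + (i + 1) / 2) → v.1 ⟨m, hm⟩ = 0 from
        fun l hl => h l.val l.isLt hl
      intro m
      induction m using Nat.strong_induction_on with
      | _ m ih =>
        intro hm hmu
        by_cases hc : 2 * (m + 1) ≤ c
        · have := hx ⟨2 * m + 1, by omega⟩ (show 2 * m + 1 + 1 ≤ 2 * c - i by omega)
          simp only [NF] at this
          rw [if_pos (by omega)] at this
          have := eq_zero_of_pow_eq_zero this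
          unfold coefX at this
          rw [dif_pos (by omega)] at this
          convert this using 2
          ext; simp; omega
        · have := hy ⟨2 * (c - (m + 1)), by omega⟩ (show i < 2 * (c - (m + 1)) + 1 by omega)
          simp only [NF] at this
          rw [if_pos (by omega), Finset.sum_eq_single (⟨m, hm⟩ : Fin c), if_pos (by
            constructor <;> (simp only; omega))] at this
          · simp only [show m + 1 + 2 * (c - (m + 1)) / 2 = c by omega] at this
            exact eq_zero_of_pow_eq_zero ((mul_eq_zero.1 this).resolve_right ha)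
          · intro j _ hne
            have hne' : j.val ≠ m := fun h => hne (Fin.ext h)
            split_ifs with h
            · have h0 := ih j.val (by omega) j.isLt (by omega)
              rw [show v.1 j = 0 from h0]; ring
            · rfl
          · simp
    · rintro ⟨-, hx⟩
      refine ⟨fun l hl => ?_, fun l hl => ?_⟩
      · simp only [NF]
        split_ifs
        · refine Finset.sum_eq_zero fun j _ => ?_
          split_ifs with h
          · rw [hx j (by omega)]; ring
          · rfl
        · rfl
      · simp only [NF]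
        split_ifs with h
        · unfold coefX
          split_ifs with h'
          · rw [hx _ (show (l.val + 1) / 2 - 1 + 1 ≤ _ by omega)]; ring
          · ring
        · rfl

end GcNil
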