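import Groth.Prelude.Def_W4c5quivmodgenus0Quiv
import Mathlib

/-!
Stability for the quiver attached to points on the projective line.
-/

namespace PtQuivLemmas

open PtQuiv

variable {K : Type*} [Field K]

lemma finrank_line {v : Fin 2 → K} (hv : v ≠ 0) : Module.finrank K (K ∙ v) = 1 :=
  finrank_span_singleton hv

lemma pos_of_stable {ι : Type*} [Fintype ι] {s : ι → (Fin 2 → K)} {θ : ι → ℚ}
    (h0 : ∀ i, 0 ≤ θ i) (h2 : ∑ i, θ i = 2) (h : QStable (-1) θ s) (i : ι) : 0 < θ i := by
  classical
  refine (h0 i).lt_of_ne fun he => ?_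
  have hsum : ∑ j ∈ Finset.univ.erase i, θ j = 2 := by
    rw [← h2, ← Finset.add_sum_erase _ _ (Finset.mem_univ i), ← he, zero_add]
  rcases h.2 ⊤ (Finset.univ.erase i) (fun _ _ => trivial) (by
    rw [QWt, hsum, finrank_top, Module.finrank_fin_fun]; norm_num) with ⟨h1, -⟩ | ⟨-, h1⟩
  · exact absurd h1 top_ne_bot
  · have := Finset.mem_univ i
    rw [← h1] at this
    exact Finset.notMem_erase i _ this

theorem exists_qStable_iff {ι : Type*} [Fintype ι] (s : ι → (Fin 2 → K)) (hs : ∀ i, s i ≠ 0) :
    (∃ θ : ι → ℚ, (∀ i, 0 ≤ θ i) ∧ (∀ i, θ i ≤ 1) ∧ ∑ i, θ i = 2 ∧ QStable (-1) θ s) ↔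
      ∃ i j k : ι, s i ∉ K ∙ s j ∧ s j ∉ K ∙ s k ∧ s i ∉ K ∙ s k := by
  classical
  have hflip : ∀ i j, s j ∉ K ∙ s i → s i ∉ K ∙ s j := fun i j h hm => h (by
    obtain ⟨c, hc⟩ := Submodule.mem_span_singleton.1 hm
    have hc0 : c ≠ 0 := by rintro rfl; rw [zero_smul] at hc; exact hs i hc.symm
    exact Submodule.mem_span_singleton.2 ⟨c⁻¹, by rw [← hc, smul_smul, inv_mul_cancel₀ hc0, one_smul]⟩)
  constructor
  · rintro ⟨θ, h0, h1, h2, hst⟩
    have hline : ∀ (i : ι) (I : Finset ι), (∀ j ∈ I, s j ∈ K ∙ s i) → ∑ j ∈ I, θ j < 1 := by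
      intro i I hI
      have hle := hst.1.2 (K ∙ s i) I hI
      rw [QWt, finrank_line (hs i), Nat.cast_one] at hle
      refine lt_of_le_of_ne (by linarith) fun he => ?_
      rcases hst.2 (K ∙ s i) I hI (by rw [QWt, finrank_line (hs i), he]; norm_num) with
        ⟨hb, -⟩ | ⟨ht, -⟩
      · exact hs i (Submodule.span_singleton_eq_bot.1 hb)
      · have := finrank_line (K := K) (hs i)
        rw [ht, finrank_top, Module.finrank_fin_fun] at this
        omega
    have hne : Nonempty ι := by
      by_contra h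
      rw [not_nonempty_iff] at h
      simp at h2
    obtain ⟨i⟩ := hne
    obtain ⟨j, hj⟩ : ∃ j, s j ∉ K ∙ s i := by
      by_contra h
      push Not at h
      have := hline i Finset.univ fun j _ => h j
      rw [h2] at this; linarith
    obtain ⟨k, hk1, hk2⟩ : ∃ k, s k ∉ K ∙ s i ∧ s k ∉ K ∙ s j := by
      by_contra h
      push Not at h
      have h3 := hline i (Finset.univ.filter fun l => s l ∈ K ∙ s i) (by simp)
      have h4 := hline j (Finset.univ.filter fun l => ¬ s l ∈ K ∙ s i) (fun l hl =>
        h l (Finset.mem_filter.1 hl).2)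
      have h5 := Finset.sum_filter_add_sum_filter_not Finset.univ (fun l => s l ∈ K ∙ s i) θ
      linarith
    exact ⟨i, j, k, hflip i j hj, hflip j k hk2, hflip i k hk1⟩
  · rintro ⟨i, j, k, hij, hjk, hik⟩
    have eij : i ≠ j := fun h => hij (h ▸ Submodule.mem_span_singleton_self _)
    have ejk : j ≠ k := fun h => hjk (h ▸ Submodule.mem_span_singleton_self _)
    have eik : i ≠ k := fun h => hik (h ▸ Submodule.mem_span_singleton_self _)
    set T : Finset ι := {i, j, k}
    have hT : T.card = 3 := by
      simp [T, eij, ejk, eik]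
    set N : ℚ := ((Finset.univ \ T).card : ℚ) with hNdef
    set ε : ℚ := 1 / (3 * (N + 1))
    have hN : 0 ≤ N := Nat.cast_nonneg _
    have hε : 0 < ε := by positivity
    have hNε : N * ε < 1 / 3 := by
      rw [mul_one_div, div_lt_div_iff₀ (by positivity) (by norm_num)]; linarith
    set θ : ι → ℚ := fun l => if l ∈ T then (2 - N * ε) / 3 else ε
    have hpos : ∀ l, 0 < θ l := fun l => by
      simp only [θ]; split_ifs <;> [skip; exact hε]
      linarith
    have htot : ∑ l, θ l = 2 := by
      rw [← Finset.sum_sdiff (Finset.subset_univ T),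
        Finset.sum_congr rfl (fun l hl => if_neg (Finset.mem_sdiff.1 hl).2),
        Finset.sum_congr (s₁ := T) rfl (fun l hl => if_pos hl)]
      simp only [Finset.sum_const, nsmul_eq_mul, hT]
      show N * ε + _ = 2
      push_cast; ring
    refine ⟨θ, fun l => (hpos l).le, fun l => ?_, htot, ?_⟩
    · simp only [θ]; split_ifs
      · have : 0 ≤ N * ε := by positivity
        linarith
      · have : ε ≤ 1 / 3 := by
          rw [div_le_div_iff₀ (by positivity) (by norm_num)]; linarith
        linarith
    have key : ∀ (L : Submodule K (Fin 2 → K)) (I : Finset ι), QSubrep s L I →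
        L ≠ ⊤ → L ≠ ⊥ → QWt K (-1) θ L I < 0 := by
      intro L I hI htop hbot
      have hdim : Module.finrank K L = 1 := by
        have h1 : Module.finrank K L ≠ 0 := fun h => hbot (Submodule.finrank_eq_zero.1 h)
        have h2 := Submodule.finrank_lt (lt_top_iff_ne_top.2 htop).ne
        rw [Module.finrank_fin_fun] at h2
        omega
      have hmem : ∀ a b, s a ∉ K ∙ s b → ¬ (s a ∈ L ∧ s b ∈ L) := by
        intro a b hab ⟨ha, hb⟩
        apply hab
        have heq : K ∙ s b = L := Submodule.eq_of_le_of_finrank_eq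
          ((Submodule.span_singleton_le_iff_mem _ _).2 hb) (by rw [finrank_line (hs b), hdim])
        rwa [heq]
      have hcard : (I.filter (· ∈ T)).card ≤ 1 := by
        rw [Finset.card_le_one]
        intro a ha b hb
        obtain ⟨ha1, ha2⟩ := Finset.mem_filter.1 ha
        obtain ⟨hb1, hb2⟩ := Finset.mem_filter.1 hb
        simp only [T, Finset.mem_insert, Finset.mem_singleton] at ha2 hb2
        by_contra hne
        rcases ha2 with rfl | rfl | rfl <;> rcases hb2 with rfl | rfl | rfl <;>
          first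
            | exact hne rfl
            | exact hmem _ _ hij ⟨hI _ ha1, hI _ hb1⟩
            | exact hmem _ _ hij ⟨hI _ hb1, hI _ ha1⟩
            | exact hmem _ _ hjk ⟨hI _ ha1, hI _ hb1⟩
            | exact hmem _ _ hjk ⟨hI _ hb1, hI _ ha1⟩
            | exact hmem _ _ hik ⟨hI _ ha1, hI _ hb1⟩
            | exact hmem _ _ hik ⟨hI _ hb1, hI _ ha1⟩
      have hsum : ∑ l ∈ I, θ l ≤ (2 - N * ε) / 3 + N * ε := by
        rw [← Finset.sum_filter_add_sum_filter_not I (· ∈ T)]
        refine add_le_add ?_ ?_
        · rw [Finset.sum_congr rfl (fun l hl => if_pos (Finset.mem_filter.1 hl).2),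
            Finset.sum_const, nsmul_eq_mul]
          have : ((I.filter (· ∈ T)).card : ℚ) ≤ 1 := by exact_mod_cast hcard
          nlinarith
        · rw [Finset.sum_congr rfl (fun l hl => if_neg (Finset.mem_filter.1 hl).2),
            Finset.sum_const, nsmul_eq_mul]
          refine mul_le_mul_of_nonneg_right ?_ hε.le
          exact Nat.cast_le.2 (Finset.card_le_card fun l hl => by
            rw [Finset.mem_filter] at hl; simp [hl.2])
      rw [QWt, hdim]; push_cast; linarith
    refine ⟨⟨by rw [htot]; norm_num, fun L I hI => ?_⟩, fun L I hI h0 => ?_⟩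
    · by_cases hb : L = ⊥
      · subst hb
        have : I = ∅ := Finset.eq_empty_of_forall_notMem fun l hl =>
          hs l ((Submodule.mem_bot K).1 (hI l hl))
        simp [QWt, this]
      by_cases ht : L = ⊤
      · subst ht
        have := Finset.sum_le_univ_sum_of_nonneg (s := I) fun l => (hpos l).le
        rw [QWt, finrank_top, Module.finrank_fin_fun]; push_cast; linarith
      exact (key L I hI ht hb).le
    · by_cases hb : L = ⊥
      · subst hb
        exact Or.inl ⟨rfl, Finset.eq_empty_of_forall_notMem fun l hl =>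
          hs l ((Submodule.mem_bot K).1 (hI l hl))⟩
      by_cases ht : L = ⊤
      · subst ht
        refine Or.inr ⟨rfl, Finset.eq_univ_iff_forall.2 fun l => ?_⟩
        by_contra hl
        have := Finset.sum_lt_sum_of_subset (Finset.subset_univ I) (Finset.mem_univ l) hl (hpos l)
          fun a _ _ => (hpos a).le
        rw [QWt, finrank_top, Module.finrank_fin_fun] at h0
        push_cast at h0; linarith
      exact absurd h0 (key L I hI ht hb).ne

section Reduce

variable {κ : Type*} [Fintype κ] [DecidableEq κ] {a b : κ} (hab : a ≠ b) (s : κ → (Fin 2 → K))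
  (θ : κ → ℚ) (h0 : ∀ i, 0 ≤ θ i) (h1 : ∀ i, θ i ≤ 1) (h2 : ∑ i, θ i = 2)
  (hθ : 1 < θ a + θ b) (hθ' : θ a + θ b < 2)

local notation "κ'" => {i : κ // i ≠ a ∧ i ≠ b}

/-- include the others -/
def emb (a b : κ) : {i : κ // i ≠ a ∧ i ≠ b} ↪ κ := ⟨Subtype.val, Subtype.val_injective⟩

include hθ h1 in
lemma pos_ab : 0 < θ a ∧ 0 < θ b := ⟨by linarith [h1 b], by linarith [h1 a]⟩

include h0 hθ hab in
lemma li_of_semistable (h : QSemistable (-1) θ s) : LinearIndependent K ![s a, s b] := by
  by_contra hdep
  have hrk : Module.finrank K (Submodule.span K (Set.range ![s a, s b])) ≤ 1 := by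
    have h2 := finrank_range_le_card (R := K) ![s a, s b]
    rw [Fintype.card_fin] at h2
    have h3 : Module.finrank K (Submodule.span K (Set.range ![s a, s b])) ≠ 2 := fun h3 =>
      hdep (linearIndependent_iff_card_eq_finrank_span.2 (by rw [Fintype.card_fin]; exact h3.symm))
    change Module.finrank K (Submodule.span K (Set.range ![s a, s b])) ≤ 2 at h2
    omega
  have := h.2 (Submodule.span K (Set.range ![s a, s b])) ({a} ∪ {b}) (by
    intro i hi
    simp only [Finset.mem_union, Finset.mem_singleton] at hi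
    rcases hi with rfl | rfl
    · exact Submodule.subset_span ⟨0, rfl⟩
    · exact Submodule.subset_span ⟨1, rfl⟩)
  rw [QWt, Finset.sum_union (by simpa using hab), Finset.sum_singleton, Finset.sum_singleton] at this
  have hr : (Module.finrank K (Submodule.span K (Set.range ![s a, s b])) : ℚ) ≤ 1 := by
    exact_mod_cast hrk
  linarith

include hab h0 h1 h2 hθ hθ' in
omit hab in
lemma scale_pos : 0 < (2 - θ a - θ b)⁻¹ := by
  apply inv_pos.2; linarith

include hab h0 h1 h2 hθ hθ' in
theorem semistable_iff :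
    (PtQuiv.QSemistable (-1) θ s ↔
      (LinearIndependent K ![s a, s b] ∧
        ∀ t : {i : κ // i ≠ a ∧ i ≠ b} → (Fin 2 → K),
          (∀ i, s i.1 = t i 0 • s a + t i 1 • s b) →
            PtQuiv.PSemistable ![(2 - θ a - θ b)⁻¹ * (θ a - 1), (2 - θ a - θ b)⁻¹ * (θ b - 1)]
              (fun i : {i : κ // i ≠ a ∧ i ≠ b} => (2 - θ a - θ b)⁻¹ * θ i.1) t)) ∧
    (PtQuiv.QStable (-1) θ s ↔
      (LinearIndependent K ![s a, s b] ∧
        ∀ t : {i : κ // i ≠ a ∧ i ≠ b} → (Fin 2 → K),
          (∀ i, s i.1 = t i 0 • s a + t i 1 • s b) →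
            PtQuiv.PStable ![(2 - θ a - θ b)⁻¹ * (θ a - 1), (2 - θ a - θ b)⁻¹ * (θ b - 1)]
              (fun i : {i : κ // i ≠ a ∧ i ≠ b} => (2 - θ a - θ b)⁻¹ * θ i.1) t)) := by
  classical
  set c := (2 - θ a - θ b)⁻¹ with hc
  have hcpos : 0 < c := inv_pos.2 (by linarith)
  obtain ⟨hpa, hpb⟩ : 0 < θ a ∧ 0 < θ b := ⟨by linarith [h1 b], by linarith [h1 a]⟩
  -- weights of the reduced representation
  have hP : ∀ (U : Fin 2 → Submodule K K) (I : Finset κ'),
      PWt K ![c * (θ a - 1), c * (θ b - 1)] (fun i : κ' => c * θ i.1) U I =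
        c * ((θ a - 1) * (Module.finrank K (U 0) : ℚ) + (θ b - 1) * (Module.finrank K (U 1) : ℚ) +
          ∑ i ∈ I.map (emb a b), θ i) := by
    intro U I
    rw [PWt, Fin.sum_univ_two, Finset.sum_map, ← Finset.mul_sum]
    simp [emb]; ring
  have htot : ∑ i : κ', θ i.1 = 2 - θ a - θ b := by
    have h3 : ∑ i : κ', θ i.1 = ∑ i ∈ (Finset.univ.erase a).erase b, θ i :=
      (Finset.sum_subtype ((Finset.univ.erase a).erase b) (by simp [and_comm]) θ).symm
    have h4 := Finset.add_sum_erase Finset.univ θ (Finset.mem_univ a)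
    have h5 := Finset.add_sum_erase (Finset.univ.erase a) θ
      (Finset.mem_erase.2 ⟨hab.symm, Finset.mem_univ b⟩)
    linarith
  have hsub : ∀ (I : Finset κ), a ∉ I → b ∉ I → ∑ i ∈ I, θ i ≤ 2 - θ a - θ b := by
    intro I ha hb
    rw [← htot, ← Finset.sum_subtype ((Finset.univ.erase a).erase b) (by simp [and_comm]) θ]
    refine Finset.sum_le_sum_of_subset_of_nonneg (fun i hi => ?_) fun i _ _ => h0 i
    simp only [Finset.mem_erase, Finset.mem_univ, and_true]
    exact ⟨fun e => hb (e ▸ hi), fun e => ha (e ▸ hi)⟩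
  have hback : ∀ I : Finset κ, a ∉ I → b ∉ I →
      ∃ I' : Finset κ', I'.map (emb a b) = I := by
    intro I ha hb
    refine ⟨I.subtype _, ?_⟩
    ext i
    simp only [Finset.mem_map, Finset.mem_subtype, emb, Function.Embedding.coeFn_mk]
    constructor
    · rintro ⟨j, hj, rfl⟩; exact hj
    · intro hi; exact ⟨⟨i, fun e => ha (e ▸ hi), fun e => hb (e ▸ hi)⟩, hi, rfl⟩
  -- each subrepresentation of the reduced representation comes from one of `s`
  have hfwd : ∀ (t : κ' → (Fin 2 → K)), (∀ i, s i.1 = t i 0 • s a + t i 1 • s b) →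
      LinearIndependent K ![s a, s b] →
      ∀ (U : Fin 2 → Submodule K K) (I : Finset κ'), PSubrep t U I →
      ∃ (L : Submodule K (Fin 2 → K)) (J : Finset κ), QSubrep s L J ∧
        PWt K ![c * (θ a - 1), c * (θ b - 1)] (fun i : κ' => c * θ i.1) U I = c * QWt K (-1) θ L J ∧
        (L = ⊥ ∧ J = ∅ → U = ⊥ ∧ I = ∅) ∧ (L = ⊤ ∧ J = Finset.univ → U = ⊤ ∧ I = Finset.univ) := by
    intro t ht hli U I hI
    have hna : s a ≠ 0 := by simpa using hli.ne_zero 0
    have hnb : s b ≠ 0 := by simpa using hli.ne_zero 1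
    have hI' : ∀ i ∈ I.map (emb a b), i ≠ a ∧ i ≠ b := fun i hi => by
      obtain ⟨j, _, rfl⟩ := Finset.mem_map.1 hi; exact j.2
    have hUtop : ∀ j, U j = ⊥ ∨ U j = ⊤ := fun j => eq_bot_or_eq_top (U j)
    have hUeq : ∀ (W : Fin 2 → Submodule K K), U 0 = W 0 → U 1 = W 1 → U = W := fun W e0 e1 => by
      funext j; fin_cases j <;> assumption
    rcases hUtop 0 with e0 | e0 <;> rcases hUtop 1 with e1 | e1
    · refine ⟨⊥, I.map (emb a b), fun i hi => ?_, ?_, ?_, ?_⟩
      · obtain ⟨j, hj, rfl⟩ := Finset.mem_map.1 hi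
        have a0 : t j 0 = 0 := (Submodule.mem_bot K).1 (e0 ▸ hI j hj 0)
        have a1 : t j 1 = 0 := (Submodule.mem_bot K).1 (e1 ▸ hI j hj 1)
        rw [Submodule.mem_bot]; show s j.1 = 0; rw [ht, a0, a1]; simp
      · rw [hP, QWt, e0, e1]; simp
      · rintro ⟨-, hJ⟩; exact ⟨hUeq _ e0 e1, Finset.map_eq_empty.1 hJ⟩
      · rintro ⟨hL, -⟩; exact absurd hL.symm top_ne_bot
    · refine ⟨K ∙ s b, insert b (I.map (emb a b)), fun i hi => ?_, ?_, ?_, ?_⟩
      · rcases Finset.mem_insert.1 hi with rfl | hi
        · exact Submodule.mem_span_singleton_self _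
        obtain ⟨j, hj, rfl⟩ := Finset.mem_map.1 hi
        have a0 : t j 0 = 0 := (Submodule.mem_bot K).1 (e0 ▸ hI j hj 0)
        show s j.1 ∈ _
        rw [ht, a0, zero_smul, zero_add]
        exact Submodule.smul_mem _ _ (Submodule.mem_span_singleton_self _)
      · rw [hP, QWt, e0, e1, finrank_line hnb, Finset.sum_insert (fun h => (hI' b h).2 rfl)]
        simp [hcpos.ne']; ring
      · rintro ⟨hL, -⟩; exact absurd (Submodule.span_singleton_eq_bot.1 hL) hnb
      · rintro ⟨hL, -⟩
        have := finrank_line (K := K) hnb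
        rw [hL, finrank_top, Module.finrank_fin_fun] at this; omega
    · refine ⟨K ∙ s a, insert a (I.map (emb a b)), fun i hi => ?_, ?_, ?_, ?_⟩
      · rcases Finset.mem_insert.1 hi with rfl | hi
        · exact Submodule.mem_span_singleton_self _
        obtain ⟨j, hj, rfl⟩ := Finset.mem_map.1 hi
        have a1 : t j 1 = 0 := (Submodule.mem_bot K).1 (e1 ▸ hI j hj 1)
        show s j.1 ∈ _
        rw [ht, a1, zero_smul, add_zero]
        exact Submodule.smul_mem _ _ (Submodule.mem_span_singleton_self _)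
      · rw [hP, QWt, e0, e1, finrank_line hna, Finset.sum_insert (fun h => (hI' a h).1 rfl)]
        simp [hcpos.ne']; ring
      · rintro ⟨hL, -⟩; exact absurd (Submodule.span_singleton_eq_bot.1 hL) hna
      · rintro ⟨hL, -⟩
        have := finrank_line (K := K) hna
        rw [hL, finrank_top, Module.finrank_fin_fun] at this; omega
    · refine ⟨⊤, insert a (insert b (I.map (emb a b))), fun i _ => trivial, ?_, ?_, ?_⟩
      · rw [hP, QWt, e0, e1, Finset.sum_insert (by
          simp only [Finset.mem_insert, not_or]; exact ⟨hab, fun h => (hI' a h).1 rfl⟩),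
          Finset.sum_insert (fun h => (hI' b h).2 rfl)]
        simp [hcpos.ne']; ring
      · rintro ⟨hL, -⟩; exact absurd hL top_ne_bot
      · rintro ⟨-, hJ⟩
        refine ⟨hUeq _ e0 e1, Finset.eq_univ_iff_forall.2 fun i => ?_⟩
        have hi : i.1 ∈ insert a (insert b (I.map (emb a b))) := hJ ▸ Finset.mem_univ _
        simp only [Finset.mem_insert, i.2.1, i.2.2, false_or] at hi
        obtain ⟨j, hj, hji⟩ := Finset.mem_map.1 hi
        exact (Subtype.ext hji : j = i) ▸ hj
  -- each subrepresentation of `s` is bounded by one of the reduced representation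
  have hrev : LinearIndependent K ![s a, s b] → ∃ t : κ' → (Fin 2 → K),
      (∀ i, s i.1 = t i 0 • s a + t i 1 • s b) ∧
      ∀ (L : Submodule K (Fin 2 → K)) (J : Finset κ), QSubrep s L J →
        QWt K (-1) θ L J < 0 ∨
        ∃ (U : Fin 2 → Submodule K K) (I : Finset κ'), PSubrep t U I ∧
          c * QWt K (-1) θ L J ≤ PWt K ![c * (θ a - 1), c * (θ b - 1)] (fun i : κ' => c * θ i.1) U I ∧
          ((U = ⊥ ∧ I = ∅) → L = ⊥ ∧ J = ∅) ∧
          ((U = ⊤ ∧ I = Finset.univ) → QWt K (-1) θ L J = 0 → L = ⊤ ∧ J = Finset.univ) := by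
    intro hli
    have hna : s a ≠ 0 := by simpa using hli.ne_zero 0
    have hnb : s b ≠ 0 := by simpa using hli.ne_zero 1
    let B := basisOfLinearIndependentOfCardEqFinrank hli (by simp)
    let t : κ' → (Fin 2 → K) := fun i j => B.repr (s i.1) j
    have ht : ∀ i, s i.1 = t i 0 • s a + t i 1 • s b := fun i => by
      conv_lhs => rw [← B.sum_repr (s i.1), Fin.sum_univ_two]
      simp [B, t]
    refine ⟨t, ht, fun L J hJ => ?_⟩
    have hLdim : L = ⊥ ∨ L = ⊤ ∨ Module.finrank K L = 1 := by
      have h := Submodule.finrank_le L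
      rw [Module.finrank_fin_fun] at h
      rcases (show Module.finrank K L = 0 ∨ Module.finrank K L = 2 ∨ Module.finrank K L = 1 by omega)
        with e | e | e
      · exact Or.inl (Submodule.finrank_eq_zero.1 e)
      · exact Or.inr (Or.inl (Submodule.eq_top_of_finrank_eq (by rw [e, Module.finrank_fin_fun])))
      · exact Or.inr (Or.inr e)
    rcases hLdim with rfl | rfl | hL1
    · right
      have ha : a ∉ J := fun h => hna ((Submodule.mem_bot K).1 (hJ a h))
      have hb : b ∉ J := fun h => hnb ((Submodule.mem_bot K).1 (hJ b h))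
      obtain ⟨I, hI⟩ := hback J ha hb
      refine ⟨⊥, I, fun i hi j => ?_, ?_, fun h => ⟨rfl, ?_⟩, fun h => absurd h.1 ?_⟩
      · have hsi : s i.1 = 0 := (Submodule.mem_bot K).1 (hJ _ (hI ▸ Finset.mem_map_of_mem _ hi))
        have : t i j = 0 := by simp [t, hsi]
        rw [this]; exact zero_mem _
      · rw [hP, hI, QWt]; simp
      · rw [← hI, h.2, Finset.map_empty]
      · intro e; exact bot_ne_top (congrFun e 0)
    · -- the whole plane
      by_cases hab' : a ∈ J ∧ b ∈ J
      · right
        obtain ⟨I, hI⟩ := hback ((J.erase a).erase b) (by simp) (by simp)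
        refine ⟨⊤, I, fun i hi j => trivial, le_of_eq ?_, fun h => absurd h.1 ?_, fun h _ => ⟨rfl, ?_⟩⟩
        · rw [hP, hI, QWt]
          have h4 := Finset.add_sum_erase J θ hab'.1
          have h5 := Finset.add_sum_erase (J.erase a) θ (Finset.mem_erase.2 ⟨hab.symm, hab'.2⟩)
          rw [← h4, ← h5]
          simp [hcpos.ne']; ring
        · intro e; exact top_ne_bot (congrFun e 0)
        · refine Finset.eq_univ_iff_forall.2 fun i => ?_
          by_cases hia : i = a
          · exact hia ▸ hab'.1
          by_cases hib : i = b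
          · exact hib ▸ hab'.2
          have : i ∈ (J.erase a).erase b := by
            rw [← hI, h.2]
            exact Finset.mem_map.2 ⟨⟨i, hia, hib⟩, Finset.mem_univ _, rfl⟩
          exact Finset.mem_of_mem_erase (Finset.mem_of_mem_erase this)
      · left
        rw [QWt, finrank_top, Module.finrank_fin_fun]
        have hlt : ∑ i ∈ J, θ i < 2 := by
          rw [← h2]
          by_cases haJ : a ∈ J
          · exact Finset.sum_lt_sum_of_subset (Finset.subset_univ J) (Finset.mem_univ b)
              (fun hbJ => hab' ⟨haJ, hbJ⟩) hpb fun i _ _ => h0 i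
          · exact Finset.sum_lt_sum_of_subset (Finset.subset_univ J) (Finset.mem_univ a)
              haJ hpa fun i _ _ => h0 i
        push_cast; linarith
    · -- a line
      have hboth : ¬ (s a ∈ L ∧ s b ∈ L) := by
        rintro ⟨ha, hb⟩
        have hle : Submodule.span K (Set.range ![s a, s b]) ≤ L := by
          rw [Submodule.span_le]; rintro _ ⟨i, rfl⟩; fin_cases i
          · exact ha
          · exact hb
        have h4 := Submodule.finrank_mono hle
        rw [finrank_span_eq_card hli, hL1, Fintype.card_fin] at h4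
        omega
      have hcoord : ∀ (v : κ) (j : Fin 2), v ∈ ({a, b} : Finset κ) → s v ∈ L → (if j = 0 then b else a) = v →
          ∀ i : κ', s i.1 ∈ L → t i j = 0 := by
        intro v j _ hv hj i hi
        have hspan : L = K ∙ s v := by
          have hnv : s v ≠ 0 := by
            fin_cases j <;> simp at hj <;> subst hj <;> assumption
          exact (Submodule.eq_of_le_of_finrank_eq ((Submodule.span_singleton_le_iff_mem _ _).2 hv)
            (by rw [finrank_line hnv, hL1])).symm
        rw [hspan, Submodule.mem_span_singleton] at hi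
        obtain ⟨x, hx⟩ := hi
        show B.repr (s i.1) j = 0
        have hB : B 0 = s a ∧ B 1 = s b := by simp [B]
        rw [← hx, map_smul]
        fin_cases j <;> simp at hj <;> subst hj
        · simp [← hB.2, Finsupp.single_apply]
        · simp [← hB.1, Finsupp.single_apply]
      by_cases ha : s a ∈ L
      · right
        obtain ⟨I, hI⟩ := hback (J.erase a) (by simp) (fun h => hboth ⟨ha, hJ b (Finset.mem_of_mem_erase h)⟩)
        refine ⟨![⊤, ⊥], I, fun i hi j => ?_, ?_, fun h => absurd h.1 ?_, fun h => absurd h.1 ?_⟩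
        · fin_cases j
          · trivial
          · have hiJ : i.1 ∈ J.erase a := hI ▸ Finset.mem_map_of_mem _ hi
            exact (Submodule.mem_bot K).2 (hcoord a 1 (by simp) ha (by simp) i
              (hJ _ (Finset.mem_of_mem_erase hiJ)))
        · rw [hP, hI, QWt, hL1]
          refine mul_le_mul_of_nonneg_left ?_ hcpos.le
          simp
          erw [finrank_top, finrank_bot, Module.finrank_self]
          push_cast
          by_cases haJ : a ∈ J
          · have h4 := Finset.add_sum_erase J θ haJ; linarith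
          · rw [Finset.erase_eq_of_notMem haJ]; linarith
        · intro e; exact top_ne_bot (congrFun e 0)
        · intro e; exact bot_ne_top (congrFun e 1)
      by_cases hb : s b ∈ L
      · right
        obtain ⟨I, hI⟩ := hback (J.erase b) (fun h => ha (hJ a (Finset.mem_of_mem_erase h))) (by simp)
        refine ⟨![⊥, ⊤], I, fun i hi j => ?_, ?_, fun h => absurd h.1 ?_, fun h => absurd h.1 ?_⟩
        · fin_cases j
          · have hiJ : i.1 ∈ J.erase b := hI ▸ Finset.mem_map_of_mem _ hi
            exact (Submodule.mem_bot K).2 (hcoord b 0 (by simp) hb (by simp) i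
              (hJ _ (Finset.mem_of_mem_erase hiJ)))
          · trivial
        · rw [hP, hI, QWt, hL1]
          refine mul_le_mul_of_nonneg_left ?_ hcpos.le
          simp
          erw [finrank_top, finrank_bot, Module.finrank_self]
          push_cast
          by_cases hbJ : b ∈ J
          · have h4 := Finset.add_sum_erase J θ hbJ; linarith
          · rw [Finset.erase_eq_of_notMem hbJ]; linarith
        · intro e; exact top_ne_bot (congrFun e 1)
        · intro e; exact bot_ne_top (congrFun e 0)
      left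
      have := hsub J (fun h => ha (hJ a h)) (fun h => hb (hJ b h))
      rw [QWt, hL1]; push_cast; linarith
  constructor
  · constructor
    · intro h
      have hli := li_of_semistable hab s θ h0 hθ h
      refine ⟨hli, fun t ht => ⟨?_, fun U I hI => ?_⟩⟩
      · rw [Fin.sum_univ_two, ← Finset.mul_sum, htot, Matrix.cons_val_zero, Matrix.cons_val_one,
          Matrix.cons_val_fin_one]
        ring_nf
      · obtain ⟨L, J, hJ, hw, -⟩ := hfwd t ht hli U I hI
        rw [hw]; exact mul_nonpos_of_nonneg_of_nonpos hcpos.le (h.2 L J hJ)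
    · rintro ⟨hli, h⟩
      obtain ⟨t, ht, hr⟩ := hrev hli
      refine ⟨by rw [h2]; norm_num, fun L J hJ => ?_⟩
      rcases hr L J hJ with hlt | ⟨U, I, hI, hw, -⟩
      · exact hlt.le
      · have := hw.trans ((h t ht).2 U I hI)
        exact nonpos_of_mul_nonpos_right this hcpos
  · constructor
    · intro h
      have hli := li_of_semistable hab s θ h0 hθ h.1
      refine ⟨hli, fun t ht => ⟨⟨?_, fun U I hI => ?_⟩, fun U I hI he => ?_⟩⟩
      · rw [Fin.sum_univ_two, ← Finset.mul_sum, htot, Matrix.cons_val_zero, Matrix.cons_val_one,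
          Matrix.cons_val_fin_one]
        ring_nf
      · obtain ⟨L, J, hJ, hw, -⟩ := hfwd t ht hli U I hI
        rw [hw]; exact mul_nonpos_of_nonneg_of_nonpos hcpos.le (h.1.2 L J hJ)
      · obtain ⟨L, J, hJ, hw, hA, hB⟩ := hfwd t ht hli U I hI
        rw [hw] at he
        rcases h.2 L J hJ ((mul_eq_zero.1 he).resolve_left hcpos.ne') with h' | h'
        · exact Or.inl (hA h')
        · exact Or.inr (hB h')
    · rintro ⟨hli, h⟩
      obtain ⟨t, ht, hr⟩ := hrev hli
      refine ⟨⟨by rw [h2]; norm_num, fun L J hJ => ?_⟩, fun L J hJ he => ?_⟩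
      · rcases hr L J hJ with hlt | ⟨U, I, hI, hw, -⟩
        · exact hlt.le
        · have := hw.trans ((h t ht).1.2 U I hI)
          exact nonpos_of_mul_nonpos_right this hcpos
      · rcases hr L J hJ with hlt | ⟨U, I, hI, hw, hA, hB⟩
        · exact absurd he hlt.ne
        · rw [he, mul_zero] at hw
          rcases (h t ht).2 U I hI (le_antisymm ((h t ht).1.2 U I hI) hw) with h' | h'
          · exact Or.inl (hA h')
          · exact Or.inr (hB h' he)

end Reduce

end PtQuivLemmas
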