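import Mathlib

/-!
Division by a quadric with a unit square coefficient in a graded piece of `R[X₀, X₁, X₂]`.
-/

namespace QuadricBasis

open MvPolynomial

theorem linearIndependent_and_span {R : Type*} [CommRing R] {σ : Type*} [Fintype σ] [DecidableEq σ]
    (j : σ) (q : MvPolynomial σ R) (hq : q.IsHomogeneous 2)
    (hqj : IsUnit (q.coeff (Finsupp.single j 2))) (n : ℕ) :
    LinearIndependent R (Sum.elim
        (fun m : {m : σ →₀ ℕ // m.degree = n ∧ m j < 2} => monomial m.1 (1 : R))
        (fun m : {m : σ →₀ ℕ // m.degree + 2 = n} => q * monomial m.1 (1 : R))) ∧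
      Submodule.span R (Set.range (Sum.elim
        (fun m : {m : σ →₀ ℕ // m.degree = n ∧ m j < 2} => monomial m.1 (1 : R))
        (fun m : {m : σ →₀ ℕ // m.degree + 2 = n} => q * monomial m.1 (1 : R)))) =
      homogeneousSubmodule σ R n := by
  set fam := Sum.elim
    (fun m : {m : σ →₀ ℕ // m.degree = n ∧ m j < 2} => monomial m.1 (1 : R))
    (fun m : {m : σ →₀ ℕ // m.degree + 2 = n} => q * monomial m.1 (1 : R))
  set S := Submodule.span R (Set.range fam)
  set H := homogeneousSubmodule σ R n
  have hsub : S ≤ H := by
    rw [Submodule.span_le]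
    rintro _ ⟨m | m, rfl⟩
    · exact isHomogeneous_monomial _ m.2.1
    · have := hq.mul (isHomogeneous_monomial (R := R) (n := m.1.degree) 1 rfl)
      rwa [add_comm, m.2] at this
  have hdeg2 : (Finsupp.single j 2 : σ →₀ ℕ).degree = 2 := by simp
  -- triangularity
  have hmon : ∀ (N : ℕ) (m : σ →₀ ℕ), m j = N → m.degree = n → monomial m (1 : R) ∈ S := by
    intro N
    induction N using Nat.strong_induction_on with
    | _ N ih =>
      intro m hm hdeg
      by_cases hlt : m j < 2
      · exact Submodule.subset_span ⟨Sum.inl ⟨m, hdeg, hlt⟩, rfl⟩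
      push Not at hlt
      set m' := m - Finsupp.single j 2
      have hm' : m' + Finsupp.single j 2 = m :=
        tsub_add_cancel_of_le (Finsupp.single_le_iff.2 hlt)
      have hd' : m'.degree + 2 = n := by
        rw [← hdeg, ← hm', map_add, hdeg2]
      have hmem : q * monomial m' 1 ∈ S := Submodule.subset_span ⟨Sum.inr ⟨m', hd'⟩, rfl⟩
      obtain ⟨u, hu⟩ := hqj
      have hsplit : q * monomial m' 1 = (u : R) • monomial m 1 +
          ∑ d ∈ q.support.erase (Finsupp.single j 2), q.coeff d • monomial (d + m') (1 : R) := by
        conv_lhs => rw [← support_sum_monomial_coeff q, Finset.sum_mul]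
        have hs : Finsupp.single j 2 ∈ q.support ∨ Finsupp.single j 2 ∉ q.support := em _
        have h0 : ∀ d, monomial d (q.coeff d) * monomial m' 1 =
            q.coeff d • monomial (d + m') (1 : R) := by
          intro d; rw [monomial_mul, mul_one, smul_monomial, smul_eq_mul, mul_one]
        simp only [h0]
        rcases hs with hs | hs
        · rw [← Finset.add_sum_erase _ _ hs, hu, add_comm (Finsupp.single j 2) m', hm']
        · have hz := notMem_support_iff.1 hs
          rw [Finset.erase_eq_of_notMem hs, ← hu] at *
          rw [hz, zero_smul, zero_add]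
      have hsum : ∑ d ∈ q.support.erase (Finsupp.single j 2),
          q.coeff d • monomial (d + m') (1 : R) ∈ S := by
        refine Submodule.sum_mem _ fun d hd => Submodule.smul_mem _ _ ?_
        obtain ⟨hne, hd⟩ := Finset.mem_erase.1 hd
        have hdd : d.degree = 2 := by
          have := hq (mem_support_iff.1 hd)
          rw [Finsupp.degree_eq_weight_one]; exact this
        refine ih ((d + m') j) ?_ _ rfl (by rw [map_add, hdd, add_comm, hd'])
        have hdj : d j < 2 := by
          by_contra hc
          push Not at hc
          have hle : Finsupp.single j 2 ≤ d := Finsupp.single_le_iff.2 hc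
          apply hne
          have h1 : (d - Finsupp.single j 2).degree + 2 = 2 := by
            conv_rhs => rw [← hdd, ← tsub_add_cancel_of_le hle, map_add, hdeg2]
          have h2 : d - Finsupp.single j 2 = 0 := by
            rw [← Finsupp.degree_eq_zero_iff]; omega
          rw [← tsub_add_cancel_of_le hle, h2, zero_add]
        have hmj : m' j = m j - 2 := by simp [m']
        simp only [Finsupp.add_apply, hmj]
        omega
      have : (u : R) • monomial m (1 : R) ∈ S := by
        have := S.sub_mem hmem hsum
        rwa [hsplit, add_sub_cancel_right] at this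
      have := S.smul_mem ((u⁻¹ : Rˣ) : R) this
      rwa [smul_smul, Units.inv_mul, one_smul] at this
  have hsup : H ≤ S := by
    intro f hf
    rw [← support_sum_monomial_coeff f]
    refine Submodule.sum_mem _ fun d hd => ?_
    have hdd : d.degree = n := by
      have := hf (mem_support_iff.1 hd)
      rw [Finsupp.degree_eq_weight_one]; exact this
    rw [← mul_one (f.coeff d), ← smul_eq_mul, ← smul_monomial]
    exact S.smul_mem _ (hmon _ d rfl hdd)
  refine ⟨?_, le_antisymm hsub hsup⟩
  -- surjective endomorphism argument
  let T := {m : σ →₀ ℕ // m.degree = n}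
  have : Finite T := (Finsupp.finite_of_degree_eq n).to_subtype
  let bij : T ≃ ({m : σ →₀ ℕ // m.degree = n ∧ m j < 2} ⊕ {m : σ →₀ ℕ // m.degree + 2 = n}) :=
    { toFun := fun m => if h : m.1 j < 2 then Sum.inl ⟨m.1, m.2, h⟩ else
        Sum.inr ⟨m.1 - Finsupp.single j 2, by
          have := congrArg Finsupp.degree
            (tsub_add_cancel_of_le (Finsupp.single_le_iff.2 (not_lt.1 h)))
          rw [map_add, hdeg2] at this
          exact this.trans m.2⟩
      invFun := Sum.elim (fun m => ⟨m.1, m.2.1⟩)
        (fun m => ⟨m.1 + Finsupp.single j 2, by rw [map_add, hdeg2, m.2]⟩)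
      left_inv := fun m => by
        by_cases h : m.1 j < 2
        · simp [h]
        · simp only [h, dif_neg, not_false_eq_true, Sum.elim_inr]
          exact Subtype.ext (tsub_add_cancel_of_le (Finsupp.single_le_iff.2 (not_lt.1 h)))
      right_inv := by
        rintro (m | m)
        · simp [m.2.2]
        · simp }
  let e : T → H := fun m => ⟨monomial m.1 1, isHomogeneous_monomial _ m.2⟩
  have he : LinearIndependent R e := by
    refine LinearIndependent.of_comp H.subtype ?_
    have h := (basisMonomials σ R).linearIndependent.comp (fun m : T => m.1) Subtype.val_injective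
    have heq : H.subtype ∘ e = (basisMonomials σ R) ∘ fun m : T => m.1 := funext fun m => by simp [e]
    rw [heq]; exact h
  have hespan : ⊤ ≤ Submodule.span R (Set.range e) := by
    intro f _
    have : (f : MvPolynomial σ R) ∈ Submodule.map H.subtype (Submodule.span R (Set.range e)) := by
      rw [Submodule.map_span, ← support_sum_monomial_coeff (f : MvPolynomial σ R)]
      refine Submodule.sum_mem _ fun d hd => ?_
      have hdd : d.degree = n := by
        have := f.2 (mem_support_iff.1 hd)
        rw [Finsupp.degree_eq_weight_one]; exact this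
      rw [← mul_one (coeff d _), ← smul_eq_mul, ← smul_monomial]
      exact Submodule.smul_mem _ _ (Submodule.subset_span ⟨e ⟨d, hdd⟩, ⟨_, rfl⟩, rfl⟩)
    obtain ⟨g, hg, hgf⟩ := this
    rwa [Subtype.ext hgf] at hg
  let b := Module.Basis.mk he hespan
  have : Module.Finite R H := Module.Finite.of_basis b
  let v : T → H := fun m => ⟨fam (bij m), hsub (Submodule.subset_span ⟨_, rfl⟩)⟩
  let L : H →ₗ[R] H := b.constr R v
  have hLsurj : Function.Surjective L := by
    rw [← LinearMap.range_eq_top, b.constr_range, eq_top_iff]
    intro f _
    have hf := hsup f.2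
    obtain ⟨g, hg, hgf⟩ : (f : MvPolynomial σ R) ∈
        Submodule.map H.subtype (Submodule.span R (Set.range v)) := by
      rw [Submodule.map_span]
      refine Submodule.span_mono ?_ hf
      rintro _ ⟨i, rfl⟩
      exact ⟨v (bij.symm i), ⟨_, rfl⟩, by simp [v]⟩
    rwa [Subtype.ext hgf] at hg
  have hLinj : Function.Injective L := OrzechProperty.injective_of_surjective_endomorphism L hLsurj
  have hv : LinearIndependent R v := by
    have := b.linearIndependent.map' L (LinearMap.ker_eq_bot.2 hLinj)
    have heq : v = L ∘ b := funext fun m => (b.constr_basis R v m).symm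
    rw [heq]; exact this
  have hfam : LinearIndependent R (fam ∘ bij) :=
    hv.map' H.subtype H.ker_subtype
  exact (linearIndependent_equiv bij).1 hfam

end QuadricBasis
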