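import Mathlib.RingTheory.RootsOfUnity.PrimitiveRoots
import Mathlib.Tactic.Ring
import Mathlib.Tactic.FieldSimp
import Mathlib.Tactic.LinearCombination
import Mathlib.Algebra.BigOperators.Intervals
import Mathlib.Algebra.Field.GeomSum
import Mathlib.Algebra.BigOperators.Field

/-! The sum `∑ ζ^(ij) / (2 - ζ^i - ζ^(-i))`. -/

namespace GrothLib.Elem

variable {K : Type*} [Field K]

theorem geom_sum_eq_zero' {N : ℕ} {ζ : K} (hζ : IsPrimitiveRoot ζ N) {i : ℕ} (hi : ¬ N ∣ i) :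
    ∑ j ∈ Finset.range N, ζ ^ (i * j) = 0 := by
  have h1 : ζ ^ i ≠ 1 := fun h => hi (hζ.dvd_of_pow_eq_one i h)
  simp only [pow_mul]
  rw [geom_sum_eq h1, ← pow_mul, mul_comm, pow_mul, hζ.pow_eq_one, one_pow, sub_self, zero_div]

theorem sum_range_eq_Ioo {M : Type*} [AddCommMonoid M] {N : ℕ} (hN : 0 < N) (g : ℕ → M) :
    ∑ i ∈ Finset.range N, g i = g 0 + ∑ i ∈ Finset.Ioo 0 N, g i := by
  rw [← Finset.add_sum_erase _ _ (Finset.mem_range.2 hN)]
  congr 1
  refine Finset.sum_congr ?_ fun _ _ => rfl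
  ext i
  simp only [Finset.mem_erase, Finset.mem_range, Finset.mem_Ioo]
  omega

theorem sum_pow_div_two_sub (h6 : (6 : K) ≠ 0) {N : ℕ} {j : ℕ} (hj : j < N) {ζ : K}
    (hζ : IsPrimitiveRoot ζ N) :
    ∑ i ∈ Finset.Ioo 0 N, ζ ^ (i * j) / (2 - ζ ^ i - (ζ ^ i)⁻¹) =
      (j : K) * ((j : K) - (N : K)) / 2 + ((N : K) ^ 2 - 1) / 12 := by
  have h2 : (2 : K) ≠ 0 := fun h => h6 (by rw [show (6 : K) = 2 * 3 by norm_num, h, zero_mul])
  have h3 : (3 : K) ≠ 0 := fun h => h6 (by rw [show (6 : K) = 2 * 3 by norm_num, h, mul_zero])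
  have h12 : (12 : K) ≠ 0 := by rw [show (12 : K) = 2 * 2 * 3 by norm_num]; simp [h2, h3]
  have hN : 0 < N := by omega
  haveI : NeZero N := ⟨hN.ne'⟩
  have hNK : (N : K) ≠ 0 := (hζ.neZero').out
  have hζ0 : ζ ≠ 0 := hζ.ne_zero hN.ne'
  set g : ℕ → K := fun j => ∑ i ∈ Finset.Ioo 0 N, ζ ^ (i * j) / (2 - ζ ^ i - (ζ ^ i)⁻¹) with hg
  set f : ℕ → K := fun j => (j : K) * ((j : K) - (N : K)) / 2 + ((N : K) ^ 2 - 1) / 12 with hf
  have hden : ∀ i ∈ Finset.Ioo 0 N, (2 : K) - ζ ^ i - (ζ ^ i)⁻¹ ≠ 0 := by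
    intro i hi h
    have hx : ζ ^ i ≠ 1 := hζ.pow_ne_one_of_pos_of_lt (Finset.mem_Ioo.1 hi).1.ne' (Finset.mem_Ioo.1 hi).2
    have h0 : (ζ ^ i - 1) * (ζ ^ i - 1) = 0 := by
      have e : (ζ ^ i)⁻¹ * ζ ^ i = 1 := inv_mul_cancel₀ (pow_ne_zero _ hζ0)
      linear_combination (-(ζ ^ i)) * h - e
    exact hx (sub_eq_zero.1 ((mul_eq_zero.1 h0).elim id id))
  have hgeo : ∀ j, ¬ N ∣ j → ∑ i ∈ Finset.Ioo 0 N, ζ ^ (i * j) = -1 := by
    intro j hj
    have := geom_sum_eq_zero' hζ hj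
    rw [sum_range_eq_Ioo hN] at this
    simp only [Nat.mul_comm j, Nat.zero_mul, pow_zero] at this
    exact eq_neg_of_add_eq_zero_right this
  have hrec : ∀ j, j + 1 < N → g (j + 2) + g j - 2 * g (j + 1) = 1 := by
    intro j hj
    have hnd : ¬ N ∣ j + 1 := fun h => absurd (Nat.le_of_dvd (Nat.succ_pos j) h) (by omega)
    rw [← neg_neg (1 : K), ← hgeo (j + 1) hnd]
    simp only [hg, Finset.mul_sum, ← Finset.sum_add_distrib, ← Finset.sum_sub_distrib,
      ← Finset.sum_neg_distrib]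
    refine Finset.sum_congr rfl fun i hi => ?_
    have hd := hden i hi
    rw [mul_div_assoc', ← add_div, ← sub_div, div_eq_iff hd]
    have e : ζ ^ i * (ζ ^ i)⁻¹ = 1 := mul_inv_cancel₀ (pow_ne_zero _ hζ0)
    rw [show i * (j + 2) = i * j + i + i by ring, show i * (j + 1) = i * j + i by ring, pow_add,
      pow_add]
    linear_combination (-(ζ ^ (i * j))) * e
  have h10 : g 1 - g 0 = (1 - (N : K)) / 2 := by
    have hsym : ∑ i ∈ Finset.Ioo 0 N, ζ ^ i / (2 - ζ ^ i - (ζ ^ i)⁻¹) =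
        ∑ i ∈ Finset.Ioo 0 N, (ζ ^ i)⁻¹ / (2 - ζ ^ i - (ζ ^ i)⁻¹) := by
      refine Finset.sum_bij' (fun i _ => N - i) (fun i _ => N - i) ?_ ?_ ?_ ?_ ?_
      · intro i hi; rw [Finset.mem_Ioo] at hi ⊢; omega
      · intro i hi; rw [Finset.mem_Ioo] at hi ⊢; omega
      · intro i hi; rw [Finset.mem_Ioo] at hi; omega
      · intro i hi; rw [Finset.mem_Ioo] at hi; omega
      · intro i hi
        have e : ζ ^ (N - i) = (ζ ^ i)⁻¹ := eq_inv_of_mul_eq_one_left (by
          rw [← pow_add, Nat.sub_add_cancel (Finset.mem_Ioo.1 hi).2.le, hζ.pow_eq_one])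
        rw [e, inv_inv]
        ring
    have hs : 2 * (g 1 - g 0) = -∑ _i ∈ Finset.Ioo 0 N, (1 : K) := by
      simp only [hg, mul_one, mul_zero, pow_zero]
      calc 2 * (∑ i ∈ Finset.Ioo 0 N, ζ ^ i / (2 - ζ ^ i - (ζ ^ i)⁻¹) -
            ∑ i ∈ Finset.Ioo 0 N, 1 / (2 - ζ ^ i - (ζ ^ i)⁻¹))
          = ∑ i ∈ Finset.Ioo 0 N, ζ ^ i / (2 - ζ ^ i - (ζ ^ i)⁻¹) +
            ∑ i ∈ Finset.Ioo 0 N, (ζ ^ i)⁻¹ / (2 - ζ ^ i - (ζ ^ i)⁻¹) -
            2 * ∑ i ∈ Finset.Ioo 0 N, 1 / (2 - ζ ^ i - (ζ ^ i)⁻¹) := by rw [← hsym]; ring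
        _ = _ := by
          simp only [Finset.mul_sum, ← Finset.sum_add_distrib, ← Finset.sum_sub_distrib,
            ← Finset.sum_neg_distrib]
          refine Finset.sum_congr rfl fun i hi => ?_
          have hd := hden i hi
          rw [mul_div_assoc', ← add_div, ← sub_div, div_eq_iff hd]
          ring
    rw [Finset.sum_const, Nat.card_Ioo, nsmul_one, Nat.sub_zero, Nat.cast_sub hN, Nat.cast_one] at hs
    rw [eq_div_iff h2]
    linear_combination hs
  set C := g 0 - f 0 with hC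
  have hlin : ∀ m, m + 1 ≤ N → g m = f m + C ∧ g (m + 1) = f (m + 1) + C := by
    intro m
    induction m with
    | zero =>
      intro _
      refine ⟨by rw [hC]; ring, ?_⟩
      have : f 1 - f 0 = (1 - (N : K)) / 2 := by simp only [hf]; push_cast; ring
      linear_combination h10 - this
    | succ m ih =>
      intro hm
      obtain ⟨h₁, h₂⟩ := ih (by omega)
      refine ⟨h₂, ?_⟩
      have hr := hrec m (by omega)
      have : f (m + 2) + f m - 2 * f (m + 1) = 1 := by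
        simp only [hf]; push_cast; field_simp; ring
      linear_combination hr - h₁ + 2 * h₂ - this
  have hC0 : C = 0 := by
    have hsum : ∑ m ∈ Finset.range N, g m = ∑ m ∈ Finset.range N, (f m + C) :=
      Finset.sum_congr rfl fun m hm => (hlin m (Finset.mem_range.1 hm)).1
    have hg0 : ∑ m ∈ Finset.range N, g m = 0 := by
      simp only [hg]
      rw [Finset.sum_comm]
      refine Finset.sum_eq_zero fun i hi => ?_
      rw [← Finset.sum_div, geom_sum_eq_zero' hζ, zero_div]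
      exact fun h => absurd (Nat.le_of_dvd (Finset.mem_Ioo.1 hi).1 h) (by
        have := (Finset.mem_Ioo.1 hi).2; omega)
    have hF : ∀ M : ℕ, (∑ m ∈ Finset.range M, f m) * 12 =
        (M : K) * ((M : K) - 1) * (2 * (M : K) - 1) - 3 * (N : K) * (M : K) * ((M : K) - 1) +
          (M : K) * ((N : K) ^ 2 - 1) := by
      intro M
      induction M with
      | zero => simp
      | succ M ih =>
        rw [Finset.sum_range_succ, add_mul, ih]
        simp only [hf]
        push_cast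
        field_simp
        ring
    rw [hg0, Finset.sum_add_distrib, Finset.sum_const, Finset.card_range, nsmul_eq_mul] at hsum
    have hz : (12 * (N : K)) * C = 0 := by linear_combination -12 * hsum - hF N
    exact (mul_eq_zero.1 hz).resolve_left (mul_ne_zero h12 hNK)
  have := (hlin j (by omega)).1
  rw [hC0, add_zero] at this
  exact this

end GrothLib.Elem
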