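import Groth.Prelude.Def_W4c3degenlocivbPfaff
import Mathlib

/-!
The sub-Pfaffians of a general alternating matrix of binary linear forms.
-/

namespace SubPfaff

open W4c3degenlocivb

variable {R : Type*} [CommRing R]

lemma pf_map {S : Type*} [CommRing S] (f : R →+* S) :
    ∀ (n : ℕ) (T : Matrix (Fin n) (Fin n) R), f (pf n T) = pf n (T.map f)
  | 0, _ => by simp [pf]
  | 1, _ => by simp [pf]
  | n + 2, T => by
    simp only [pf, map_sum, map_mul, map_pow, map_neg, map_one]
    refine Finset.sum_congr rfl fun j _ => ?_
    rw [pf_map f n]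
    rfl

/-- a matrix with nothing below the subdiagonal -/
lemma pf_hessenberg : ∀ (s : ℕ) (T : Matrix (Fin (2 * s)) (Fin (2 * s)) R),
    (∀ l j : Fin (2 * s), j.val + 1 < l.val → T l j = 0) →
    pf (2 * s) T = ∏ p : Fin s, -T ⟨2 * p.val + 1, by omega⟩ ⟨2 * p.val, by omega⟩
  | 0, T, _ => by simp [pf]
  | s + 1, T, h => by
    show pf (2 * s + 2) T = _
    rw [pf, Finset.sum_eq_single (Fin.last (2 * s))]
    · rw [pf_hessenberg s _ (fun l j hlj => by
        apply h
        simp [Fin.succAbove_last]
        exact hlj), Fin.prod_univ_castSucc]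
      rw [mul_comm]
      congr 1
      · refine Finset.prod_congr rfl fun p _ => ?_
        simp [Fin.succAbove_last]
      · rw [show (Fin.last (2 * s)).val + 1 = 2 * s + 1 from rfl, pow_succ, pow_mul,
          neg_one_sq, one_pow, one_mul, neg_one_mul]
        congr 2
    · intro j _ hj
      have : T (Fin.last (2 * s + 1)) (Fin.castSucc j) = 0 := by
        refine h _ _ ?_
        have := j.isLt
        have : j.val ≠ 2 * s := fun e => hj (Fin.ext e)
        simp; omega
      rw [this, mul_zero, zero_mul]
    · simp

lemma pf_homogeneous {σ : Type*} {k : Type*} [CommRing k] :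
    ∀ (n : ℕ) (T : Matrix (Fin n) (Fin n) (MvPolynomial σ k)),
      (∀ i j, (T i j).IsHomogeneous 1) → (pf n T).IsHomogeneous (n / 2)
  | 0, _, _ => MvPolynomial.isHomogeneous_one _ _
  | 1, _, _ => MvPolynomial.isHomogeneous_zero _ _ _
  | n + 2, T, h => by
    rw [pf]
    refine MvPolynomial.IsHomogeneous.sum _ _ _ fun j _ => ?_
    have h1 := ((MvPolynomial.isHomogeneous_one σ k).neg.pow ((j : ℕ) + 1)).mul
      (h (Fin.last (n + 1)) (Fin.castSucc j))
    have h2 := h1.mul (pf_homogeneous n (T.submatrix (Fin.castSucc ∘ j.succAbove)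
      (Fin.castSucc ∘ j.succAbove)) fun a b => h _ _)
    rwa [show 0 * ((j : ℕ) + 1) + 1 + n / 2 = (n + 2) / 2 by omega] at h2

section

variable (k : Type*) [Field k] (r : ℕ)

/-- the exponent `y₀^b y₁^(r-b)` -/
noncomputable def expo (b : ℕ) : Fin 2 →₀ ℕ := Finsupp.single 0 b + Finsupp.single 1 (r - b)

open MvPolynomial

/-- the matrix of linear forms -/
noncomputable def lin {S : Type*} [CommRing S]
    (c : Fin (2 * r + 1) → Fin (2 * r + 1) → Fin 2 → S) :
    Matrix (Fin (2 * r + 1)) (Fin (2 * r + 1)) (MvPolynomial (Fin 2) S) :=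
  Matrix.of fun a b => ∑ l : Fin 2, C (c a b l) * X l

/-- the coefficient matrix of the even sub-Pfaffians -/
noncomputable def coeffMat {S : Type*} [CommRing S]
    (c : Fin (2 * r + 1) → Fin (2 * r + 1) → Fin 2 → S) : Matrix (Fin (r + 1)) (Fin (r + 1)) S :=
  Matrix.of fun a b => coeff (expo r b)
    (pf (2 * r) ((lin r c).submatrix (Fin.succAbove ⟨2 * a.val, by omega⟩)
      (Fin.succAbove ⟨2 * a.val, by omega⟩)))

lemma coeffMat_map {S S' : Type*} [CommRing S] [CommRing S'] (f : S →+* S')
    (c : Fin (2 * r + 1) → Fin (2 * r + 1) → Fin 2 → S) :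
    (coeffMat r c).map f = coeffMat r (fun a b l => f (c a b l)) := by
  ext a b
  simp only [coeffMat, Matrix.map_apply, Matrix.of_apply, ← MvPolynomial.coeff_map, pf_map]
  congr 2
  ext i j : 1
  simp [lin]

lemma lin_homogeneous {S : Type*} [CommRing S]
    (c : Fin (2 * r + 1) → Fin (2 * r + 1) → Fin 2 → S) (a b : Fin (2 * r + 1)) :
    (lin r c a b).IsHomogeneous 1 := by
  rw [lin, Matrix.of_apply]
  exact IsHomogeneous.sum _ _ _ fun l _ => (isHomogeneous_X S l).C_mul _

theorem exists_spanning :
    ∃ Φ : MvPolynomial (Fin (2 * r + 1) × Fin (2 * r + 1) × Fin 2) k,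
      (∃ c : Fin (2 * r + 1) → Fin (2 * r + 1) → Fin 2 → k, (∀ i j l, c j i l = -c i j l) ∧
        MvPolynomial.eval (fun p => c p.1 p.2.1 p.2.2) Φ ≠ 0) ∧
      ∀ c : Fin (2 * r + 1) → Fin (2 * r + 1) → Fin 2 → k, (∀ i j l, c j i l = -c i j l) →
        MvPolynomial.eval (fun p => c p.1 p.2.1 p.2.2) Φ ≠ 0 →
        Submodule.span k (Set.range fun i : Fin (2 * r + 1) =>
            W4c3degenlocivb.pf (2 * r) ((Matrix.of fun a b => ∑ l : Fin 2, MvPolynomial.C (c a b l) * MvPolynomial.X l).submatrix i.succAbove i.succAbove)) =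
          MvPolynomial.homogeneousSubmodule (Fin 2) k r := by
  classical
  have hev : ∀ c : Fin (2 * r + 1) → Fin (2 * r + 1) → Fin 2 → k,
      eval (fun p => c p.1 p.2.1 p.2.2)
        (coeffMat r fun a b l => (X (a, b, l) : MvPolynomial _ k)).det = (coeffMat r c).det := by
    intro c
    rw [RingHom.map_det, RingHom.mapMatrix_apply, coeffMat_map]
    simp only [eval_X]
  refine ⟨(coeffMat r fun a b l => (X (a, b, l) : MvPolynomial _ k)).det, ?_, fun c _ hne => ?_⟩
  · -- the bidiagonal example
    let c : Fin (2 * r + 1) → Fin (2 * r + 1) → Fin 2 → k := fun i j l =>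
      (if j.val = i.val + 1 ∧ l.val = i.val % 2 then 1 else 0) -
        (if i.val = j.val + 1 ∧ l.val = j.val % 2 then 1 else 0)
    refine ⟨c, fun i j l => by simp [c], ?_⟩
    rw [hev]
    have hpf : ∀ a : Fin (r + 1), pf (2 * r) ((lin r c).submatrix
        (Fin.succAbove ⟨2 * a.val, by omega⟩) (Fin.succAbove ⟨2 * a.val, by omega⟩)) =
          (X 0 : MvPolynomial (Fin 2) k) ^ a.val * X 1 ^ (r - a.val) := by
      intro a
      set i : Fin (2 * r + 1) := ⟨2 * a.val, by omega⟩
      have hval : ∀ q : Fin (2 * r), (i.succAbove q).val = if q.val < 2 * a.val then q.val else q.val + 1 := by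
        intro q
        by_cases h : q.val < 2 * a.val
        · rw [if_pos h, Fin.succAbove_of_castSucc_lt _ _ h]; rfl
        · rw [if_neg h, Fin.succAbove_of_le_castSucc _ _ (not_lt.1 h)]; rfl
      rw [pf_hessenberg r _ (fun l j hlj => ?_)]
      · have hterm : ∀ p : Fin r, -((lin r c).submatrix i.succAbove i.succAbove
            ⟨2 * p.val + 1, by omega⟩ ⟨2 * p.val, by omega⟩) =
            if p.val < a.val then (X 0 : MvPolynomial (Fin 2) k) else X 1 := by
          intro p
          simp only [Matrix.submatrix_apply, lin, Matrix.of_apply, Fin.sum_univ_two, c, hval,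
            Fin.val_zero, Fin.val_one]
          split_ifs <;>
            first
              | (exfalso; omega)
              | simp
        rw [Finset.prod_congr rfl fun p _ => hterm p, Finset.prod_ite, Finset.prod_const,
          Finset.prod_const]
        have h1 : (Finset.univ.filter fun p : Fin r => p.val < a.val).card = a.val := by
          refine Eq.trans ?_ (Finset.card_range a.val)
          rw [← Finset.card_map Fin.valEmbedding]
          congr 1
          ext q
          simp only [Finset.mem_map, Finset.mem_filter, Finset.mem_univ, true_and, Finset.mem_range,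
            Fin.valEmbedding_apply]
          exact ⟨fun ⟨p, hp, e⟩ => e ▸ hp, fun hq => ⟨⟨q, by omega⟩, hq, rfl⟩⟩
        have h2 := Finset.card_filter_add_card_filter_not (s := (Finset.univ : Finset (Fin r)))
          (fun p : Fin r => p.val < a.val)
        rw [h1, Finset.card_univ, Fintype.card_fin] at h2
        rw [h1, show (Finset.univ.filter fun p : Fin r => ¬ p.val < a.val).card = r - a.val by omega]
      · simp only [Matrix.submatrix_apply, lin, Matrix.of_apply, Fin.sum_univ_two, c, hval]
        split_ifs <;>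
          first
            | (exfalso; omega)
            | simp
    have : coeffMat r c = 1 := by
      ext a b
      simp only [coeffMat, Matrix.of_apply, hpf]
      rw [X_pow_eq_monomial, X_pow_eq_monomial, monomial_mul, mul_one, coeff_monomial, Matrix.one_apply]
      refine if_congr ⟨fun h => Fin.ext ?_, fun h => by subst h; rfl⟩ rfl rfl
      have := congr($h 0)
      simpa [expo] using this
    rw [this, Matrix.det_one]
    exact one_ne_zero
  · rw [hev] at hne
    refine le_antisymm (Submodule.span_le.2 ?_) ?_
    · rintro _ ⟨i, rfl⟩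
      have h := pf_homogeneous (2 * r) ((lin r c).submatrix i.succAbove i.succAbove) fun x y =>
        lin_homogeneous r c _ _
      rwa [Nat.mul_div_cancel_left r two_pos] at h
    intro f hf
    set P : Fin (r + 1) → MvPolynomial (Fin 2) k := fun a => pf (2 * r) ((lin r c).submatrix
      (Fin.succAbove ⟨2 * a.val, by omega⟩) (Fin.succAbove ⟨2 * a.val, by omega⟩))
    have hexp : ∀ d : Fin 2 →₀ ℕ, d.degree = r → d = expo r (d 0) ∧ d 0 ≤ r := by
      intro d hd
      have h2 : d 0 + d 1 = r := by
        rw [← hd, Finsupp.degree_eq_sum, Fin.sum_univ_two]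
      exact ⟨Finsupp.ext fun i => by fin_cases i <;> simp [expo] <;> omega, by omega⟩
    have hdecomp : ∀ g : MvPolynomial (Fin 2) k, g.IsHomogeneous r →
        g = ∑ b : Fin (r + 1), monomial (expo r b) (coeff (expo r b) g) := by
      intro g hg
      ext d
      rw [coeff_sum]
      by_cases hd : d.degree = r
      · obtain ⟨he, hle⟩ := hexp d hd
        rw [Finset.sum_eq_single (⟨d 0, by omega⟩ : Fin (r + 1))]
        · rw [coeff_monomial, if_pos he.symm, ← he]
        · intro b _ hb
          rw [coeff_monomial, if_neg]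
          intro e
          exact hb (Fin.ext (by have := congr($e 0); simpa [expo] using this))
        · simp
      · rw [IsHomogeneous.coeff_eq_zero hg hd, Finset.sum_eq_zero]
        intro b _
        rw [coeff_monomial, if_neg]
        intro e
        apply hd
        rw [← e, expo, map_add, Finsupp.degree_single, Finsupp.degree_single]
        omega
    have hP : ∀ a, P a = ∑ b : Fin (r + 1), monomial (expo r b) ((coeffMat r c) a b) := fun a => by
      refine hdecomp _ ?_
      have h := pf_homogeneous (2 * r) ((lin r c).submatrix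
        (Fin.succAbove ⟨2 * a.val, by omega⟩) (Fin.succAbove ⟨2 * a.val, by omega⟩)) fun x y =>
        lin_homogeneous r c _ _
      rwa [Nat.mul_div_cancel_left r two_pos] at h
    rw [hdecomp f hf]
    refine Submodule.sum_mem _ fun b _ => ?_
    have hmono : monomial (expo r b) (1 : k) = ∑ a, (coeffMat r c)⁻¹ b a • P a := by
      simp only [hP, Finset.smul_sum, smul_monomial, smul_eq_mul]
      rw [Finset.sum_comm]
      simp only [← map_sum, ← Matrix.mul_apply, Matrix.nonsing_inv_mul _ (Ne.isUnit hne),
        Matrix.one_apply]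
      rw [Finset.sum_eq_single b] <;> simp +contextual [eq_comm]
    rw [show monomial (expo r b) (coeff (expo r b) f) =
      coeff (expo r b) f • monomial (expo r b) (1 : k) by rw [smul_monomial, smul_eq_mul, mul_one], hmono]
    exact Submodule.smul_mem _ _ (Submodule.sum_mem _ fun a _ =>
      Submodule.smul_mem _ _ (Submodule.subset_span ⟨_, rfl⟩))

end

end SubPfaff
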